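import Cfsg.Agent.H985.VZ.Cells_m3
import Cfsg.Agent.Nodes.WittModel
import Cfsg.Agent.H876.OZU.Main_m3
import Cfsg.Agent.TitsThree.KSideO
import Cfsg.Agent.LieClassical.SLGen
import Cfsg.Agent.H62.FrameSL
import Cfsg.Agent.Nodes.WittInst
import Cfsg.Agent.ClassicalGeometry.SpinorSign
import Cfsg.Agent.FastGrp
import Cfsg.Agent.Prune
set_option linter.all false

section
prune_inst 0x7fbcadf92ba8a1dfdffb7e3fa6d6cffc31800fffe4dff94bffe061bf2bdf23080dc5f38509e012fe0fd7421410a87803f9ffeeffe26bdc7ffffd5ff45ffbee0fa5e6bd08519c88b40f380ffe03f0678e6f3fffffffffffffffffffffffffffbeffbdfbfeffff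

-- part: H200/VZ/Dat
section
prune_inst 0x404202844018002000018009281001c22ca000122004b000040e00c0005c23e212087ae61b0000d020a1a0c55003d0040001000800020000020000200011901a0900010861100a10842000f001183000000000000000000000000000000041004000000000
set_option linter.all false
open scoped Cfsg.Agent.FastGrp

-- part: H200/VZ/FixD
section
/-!
# S4842: diagonal automorphisms and the stabilisers of the `T`-characters (helper200)

* `Dia δ` : `δ` fixes `T`, preserves the root groups and maps `n_i` into `n_i T`;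
* `exists_fix_D` : `exists_fix_J` of helper985, with the additional information that the `T`-character is trivial on the
  elements `g⁻¹ δ(g)`, `g` over `w`, for all diagonal automorphisms `δ` fixing the class of `t`.
-/

set_option autoImplicit false
set_option linter.unusedSectionVars false

open Cfsg

namespace Cfsg.Agent.H200.VZ

open CoxeterSystem Cfsg.Agent.ChevalleyStructure.CoxeterGeom Cfsg.Agent.Tits.Roots Cfsg.Agent.Tits.Core
  Cfsg.Agent.Tits.Exchange Cfsg.Agent.Nodes.Reps Cfsg.Agent.Nodes.BNOf Cfsg.Agent.Nodes.StabComb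
  Cfsg.Agent.Nodes.Bruhat Cfsg.Agent.Nodes.OppDec Cfsg.Agent.Nodes.LeviDec Cfsg.Agent.H985.VZ Module

universe u v

/-! ### abstract lemmas -/

section abs

variable {P : Type u} [Group P] [Finite P] {V : Type v} [AddCommGroup V] [Module ℂ V] [FiniteDimensional ℂ V]
  {σ : Representation ℂ P V}

/-- the sum version of the vanishing lemma -/
theorem char_zero_sum (hσ : σ.IsIrreducible) {B : Subgroup P} {l : B →* ℂˣ} (hE : eig σ B l ≠ ⊥) {t : P}
    (h : ∑ᶠ g : P, LinearMap.trace ℂ V (el σ B l * σ (g⁻¹ * t * g)) = 0) : σ.character t = 0 := by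
  classical
  let _ : Fintype P := Fintype.ofFinite P
  obtain ⟨c, hc⟩ := schur hσ (f := RkOne.ss σ B l) fun g v => RkOne.ss_comm g v
  have h1 : RkOne.ss σ B l = c • 1 := LinearMap.ext fun v => hc v
  have h2 := RkOne.trace_ss (ρ := σ) (B := B) (l := l)
  have hc0 : c ≠ 0 := by
    rintro rfl
    rw [h1, zero_smul, map_zero] at h2
    have h4 : (Nat.card P : ℂ) ≠ 0 := by exact_mod_cast Nat.card_pos.ne'
    have h5 : (finrank ℂ (eig σ B l) : ℂ) ≠ 0 := by
      intro h
      apply hE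
      exact Submodule.finrank_eq_zero.1 (by exact_mod_cast h)
    exact mul_ne_zero (inv_ne_zero (card_ne B)) (mul_ne_zero h4 h5) h2.symm
  have h3 : LinearMap.trace ℂ V (σ t * RkOne.ss σ B l) = c * σ.character t := by
    rw [h1, mul_smul_comm, mul_one, map_smul, smul_eq_mul]
    rfl
  have h4 : LinearMap.trace ℂ V (σ t * RkOne.ss σ B l) = 0 := by
    unfold RkOne.ss
    rw [finsum_eq_sum_of_fintype, mul_smul_comm, map_smul, Finset.mul_sum, map_sum]
    rw [finsum_eq_sum_of_fintype] at h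
    rw [Finset.sum_congr rfl (g := fun g : P => LinearMap.trace ℂ V (el σ B l * σ (g⁻¹ * t * g))), h, smul_zero]
    intro g _
    have e1 : σ t * (σ g * el σ B l * σ g⁻¹) = (σ t * σ g * el σ B l) * σ g⁻¹ := by simp only [mul_assoc]
    have e2 : σ g⁻¹ * (σ t * σ g * el σ B l) = σ (g⁻¹ * t * g) * el σ B l := by
      rw [map_mul, map_mul]
      simp only [mul_assoc]
    rw [e1, LinearMap.trace_mul_comm, e2, LinearMap.trace_mul_comm]
  rw [h4] at h3
  rcases mul_eq_zero.1 h3.symm with h5 | h5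
  · exact absurd h5 hc0
  · exact h5

/-- the sum over a class, cell by cell -/
theorem sum_cells {ι : Type*} [Finite ι] (cell : P → ι) (F : P → ℂ) (t : P)
    (h : ∀ i, (∀ g : P, cell (g⁻¹ * t * g) ≠ i) ∨ (∀ x, cell x = i → F x = 0) ∨
      ∃ (d : P ≃* P) (c : ℂ) (a : P), c ≠ 1 ∧ d t = a * t * a⁻¹ ∧ (∀ x, cell (d x) = i ↔ cell x = i) ∧
        ∀ x, cell x = i → F (d x) = c * F x) : ∑ᶠ g : P, F (g⁻¹ * t * g) = 0 := by
  classical
  let _ : Fintype P := Fintype.ofFinite P
  let _ : Fintype ι := Fintype.ofFinite ι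
  rw [finsum_eq_sum_of_fintype, ← Finset.sum_fiberwise (g := fun g : P => cell (g⁻¹ * t * g))]
  refine Finset.sum_eq_zero fun i _ => ?_
  rcases h i with h1 | h1 | ⟨d, c, a, hc, hd, h2, h3⟩
  · refine Finset.sum_eq_zero fun g hg => ?_
    exact absurd (Finset.mem_filter.1 hg).2 (h1 g)
  · exact Finset.sum_eq_zero fun g hg => h1 _ (Finset.mem_filter.1 hg).2
  · set S := ∑ g ∈ Finset.univ.filter (fun g : P => cell (g⁻¹ * t * g) = i), F (g⁻¹ * t * g) with hS
    have key : ∀ g : P, (a⁻¹ * d g)⁻¹ * t * (a⁻¹ * d g) = d (g⁻¹ * t * g) := by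
      intro g
      rw [map_mul, map_mul, hd, map_inv]
      group
    have e1 : S = c * S := by
      conv_lhs => rw [hS]
      rw [hS, Finset.mul_sum]
      symm
      refine Finset.sum_bij (fun g _ => a⁻¹ * d g) ?_ ?_ ?_ ?_
      · intro g hg
        rw [Finset.mem_filter] at hg ⊢
        refine ⟨Finset.mem_univ _, ?_⟩
        rw [key, h2]
        exact hg.2
      · intro g _ g' _ e
        exact d.injective (mul_left_cancel e)
      · intro g hg
        refine ⟨d.symm (a * g), ?_, ?_⟩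
        · rw [Finset.mem_filter] at hg ⊢
          refine ⟨Finset.mem_univ _, ?_⟩
          rw [← h2, ← key, MulEquiv.apply_symm_apply, inv_mul_cancel_left]
          exact hg.2
        · rw [MulEquiv.apply_symm_apply, inv_mul_cancel_left]
      · intro g hg
        rw [key, h3 _ (Finset.mem_filter.1 hg).2]
    have e2 : (1 - c) * S = 0 := by rw [sub_mul, one_mul, ← e1, sub_self]
    exact (mul_eq_zero.1 e2).resolve_left (sub_ne_zero.2 hc.symm)

end abs

variable {I W : Type*} {Y : Type u} [Fintype I] [DecidableEq I] [Group W] [Group Y] {M : CoxeterMatrix I}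

/-- a diagonal automorphism -/
structure Dia (cs : CoxeterSystem M W) {A : I → I → ℤ} (h : IsCartan M A) (T : Subgroup Y) (n : I → Y)
    (X : (I → ℤ) → Subgroup Y) (d : Y ≃* Y) : Prop where
  tor : ∀ t ∈ T, d t = t
  root : ∀ x, IsRoot cs h x → ∀ u ∈ X x, d u ∈ X x
  nn : ∀ i, (n i)⁻¹ * d (n i) ∈ T

variable {cs : CoxeterSystem M W} {A : I → I → ℤ} {h : IsCartan M A} {p : ℕ} {T : Subgroup Y} {n : I → Y}
  {X : (I → ℤ) → Subgroup Y}

namespace Dia

variable {d : Y ≃* Y} (D : Dia cs h T n X d)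

include D

theorem sup_mem {S : Set (I → ℤ)} (hS : ∀ x ∈ S, IsRoot cs h x) {u : Y} (hu : u ∈ RGD.Sup X S) : d u ∈ RGD.Sup X S := by
  have h1 : RGD.Sup X S ≤ (RGD.Sup X S).comap d.toMonoidHom := by
    refine RGD.Sup_le fun x hx u hu => ?_
    exact RGD.le_Sup (X := X) hx (D.root x (hS x hx) u hu)
  exact h1 hu

theorem U_mem {u : Y} (hu : u ∈ RGD.Sup X (RGD.Pos cs h)) : d u ∈ RGD.Sup X (RGD.Pos cs h) :=
  D.sup_mem (fun _ hx => hx.1) hu

theorem B_mem {b : Y} (hb : b ∈ RGD.B cs h T X) : d b ∈ RGD.B cs h T X := by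
  have h1 : RGD.B cs h T X ≤ (RGD.B cs h T X).comap d.toMonoidHom := by
    refine sup_le (fun t ht => ?_) fun u hu => ?_
    · change d t ∈ RGD.B cs h T X
      rw [D.tor t ht]
      exact RGD.T_le_B ht
    · exact RGD.U_le_B (D.U_mem hu)
  exact h1 hb

theorem LJ_mem {J : Set I} {b : Y} (hb : b ∈ LJ cs h T X J) : d b ∈ LJ cs h T X J := by
  have h1 : LJ cs h T X J ≤ (LJ cs h T X J).comap d.toMonoidHom := by
    refine sup_le (fun t ht => ?_) fun u hu => ?_
    · change d t ∈ LJ cs h T X J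
      rw [D.tor t ht]
      exact T_le_LJ ht
    · exact le_sup_right (a := T) (D.sup_mem (fun _ hx => hx.1) hu)
  exact h1 hb

theorem PJ_mem {J : Set I} {b : Y} (hb : b ∈ PJ cs h T X J) : d b ∈ PJ cs h T X J := by
  have h1 : PJ cs h T X J ≤ (PJ cs h T X J).comap d.toMonoidHom := by
    refine sup_le (fun t ht => LJ_le_PJ (D.LJ_mem ht)) fun u hu => ?_
    exact VJ_le_PJ (D.sup_mem (fun _ hx => hx.1) hu)
  exact h1 hb

theorem rp {hN : NSys M T n} {w : W} {g : Y} (hg : Rp cs hN w g) : g⁻¹ * d g ∈ T := by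
  obtain ⟨ω, rfl⟩ := cs.wordProd_surjective w
  induction ω generalizing g with
  | nil =>
    rw [wordProd_nil] at hg
    rw [D.tor g hg.mem_of_one, inv_mul_cancel]
    exact one_mem _
  | cons i ω ih =>
    rw [wordProd_cons] at hg
    have h1 : Rp cs hN (cs.wordProd ω) ((n i)⁻¹ * g) := by
      have := (rp_simple cs hN i).inv.mul hg
      rwa [inv_mul_cancel_left] at this
    have h2 := ih h1
    have h3 : g⁻¹ * d g = ((n i)⁻¹ * g)⁻¹ * ((n i)⁻¹ * d (n i)) * ((n i)⁻¹ * g) * (((n i)⁻¹ * g)⁻¹ * d ((n i)⁻¹ * g)) := by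
      rw [map_mul, map_inv]
      group
    rw [h3]
    refine mul_mem ?_ h2
    have := (Subgroup.mem_normalizer_iff.1 (h1.inv.mem_normalizer) ((n i)⁻¹ * d (n i))).1 (D.nn i)
    rwa [inv_inv] at this

theorem rp' {hN : NSys M T n} {w : W} {g : Y} (hg : Rp cs hN w g) : Rp cs hN w (d g) := by
  have := hg.mul_mem_right (D.rp hg)
  rwa [mul_inv_cancel_left] at this

theorem cell {hN : NSys M T n} {w : W} {g : Y} (hg : Cell hN cs h X w g) : Cell hN cs h X w (d g) := by
  obtain ⟨b₁, hb₁, k, hk, b₂, hb₂, rfl⟩ := hg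
  exact ⟨d b₁, D.B_mem hb₁, d k, D.rp' hk, d b₂, D.B_mem hb₂, by rw [map_mul, map_mul]⟩

theorem lam [Finite W] (R : RGD cs h p T n X) (l : T →* ℂˣ) {b : Y} (hb : b ∈ RGD.B cs h T X) :
    lamB R l ⟨d b, D.B_mem hb⟩ = lamB R l ⟨b, hb⟩ := by
  obtain ⟨t, ht, u, hu, rfl⟩ := R.mem_B.1 hb
  rw [lamB_mul R l ht hu]
  have e : (⟨d (t * u), D.B_mem hb⟩ : RGD.B cs h T X) = ⟨t * d u, mul_mem (RGD.T_le_B ht) (RGD.U_le_B (D.U_mem hu))⟩ :=
    Subtype.ext (by
      change d (t * u) = t * d u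
      rw [map_mul, D.tor t ht])
  rw [e, lamB_mul R l ht (D.U_mem hu)]

end Dia

variable (R : RGD cs h p T n X) [Finite W] [Finite Y] {V : Type v} [AddCommGroup V] [Module ℂ V]
  {ρ : Representation ℂ Y V}

include R

/-- **the stabilisers of the `T`-characters, with diagonal automorphisms** -/
theorem exists_fix_D [FiniteDimensional ℂ V] (hG : GG cs h T X = ⊤) (hT : ∀ s ∈ T, ∀ t ∈ T, s * t = t * s)
    (hρ : ρ.IsIrreducible) (h0 : VU cs h X ρ ≠ ⊥) {J : Set I} {t : Y} (ht : Ell cs h T X J t)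
    (hχ : ρ.character t ≠ 0) {D : Set (Y ≃* Y)} (hD : ∀ d ∈ D, Dia cs h T n X d ∧ ∃ a ∈ LJ cs h T X J, d t = a * t * a⁻¹) :
    ∃ l : T →* ℂˣ, Vl cs h T X ρ l ≠ ⊥ ∧ ∀ v ∈ WJ cs J, ∀ l', Mv cs R.nsys v l l' →
      ∀ K, K ⊂ J → ∃ w ∈ WJ cs J, w ∉ WJ cs K ∧ Mv cs R.nsys w l' l' ∧
        ∀ d ∈ D, ∀ g, Rp cs R.nsys w g → ∀ s : T, (s : Y) = g⁻¹ * d g → l' s = 1 := by
  classical
  by_contra hcon
  push Not at hcon
  apply hχ
  have htP : t ∈ PJ cs h T X J := LJ_le_PJ ht.toFree.mem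
  let ι : ↥(PJ cs h T X J) →* Y := (PJ cs h T X J).subtype
  have hB : RGD.B cs h T X ≤ ι.range := by
    intro b hb
    exact ⟨⟨b, B_le_PJ hb⟩, rfl⟩
  let U : Subrepresentation (ρ.comp ι) := ⟨fx ρ (VJ cs h X J), fun g v hv => rho_fx_VJ R g.2 hv⟩
  have h1 : ρ.character t = U.toRepresentation.character ⟨t, htP⟩ := by
    rw [ht.toFree.trace_eq R]
    have h2 : ∀ x, (ρ t * av ρ (VJ cs h X J)) x ∈ fx ρ (VJ cs h X J) := fun x => rho_fx_VJ R htP (av_mem ρ _ x)
    rw [← LinearMap.trace_restrict_eq_of_forall_mem (fx ρ (VJ cs h X J)) (ρ t * av ρ (VJ cs h X J)) h2 fun x _ => h2 x]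
    change _ = LinearMap.trace ℂ _ (U.toRepresentation ⟨t, htP⟩)
    congr 1
    ext x
    change ρ t (av ρ (VJ cs h X J) x) = ρ t x
    rw [av_of_mem x.2]
  rw [h1]
  refine char_eq_zero_of_irr _ U le_rfl fun N hNU hNi => ?_
  have hN0 : N.toSubmodule ≠ ⊥ := by
    intro hb
    obtain ⟨a, b, hab⟩ := (hNi.1 : Nontrivial (Subrepresentation N.toRepresentation))
    apply hab
    apply Subrepresentation.toSubmodule_injective
    have h2 : Subsingleton N.toSubmodule := by
      rw [hb]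
      infer_instance
    ext x
    rw [Subsingleton.elim x 0]
    exact ⟨fun _ => Submodule.zero_mem _, fun _ => Submodule.zero_mem _⟩
  have hNs : ∀ g ∈ PJ cs h T X J, ∀ v ∈ N.toSubmodule, ρ g v ∈ N.toSubmodule := fun g hg v hv =>
    N.apply_mem_toSubmodule ⟨g, hg⟩ hv
  -- `N` contains vectors fixed by `U`
  have hNU : N.toSubmodule ⊓ VU cs h X ρ ≠ ⊥ := by
    intro hb
    obtain ⟨N', hN'⟩ := Cfsg.Agent.Characters.Core.exists_isCompl_sub N
    have h2 : ∀ v ∈ VU cs h X ρ, v ∈ N'.toSubmodule := by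
      intro v hv
      have h3 : v ∈ N.toSubmodule ⊔ N'.toSubmodule := by
        rw [hN'.sup_eq_top]
        exact Submodule.mem_top
      obtain ⟨a, ha, b, hb', rfl⟩ := Submodule.mem_sup.1 h3
      have h4 : a ∈ N.toSubmodule ⊓ VU cs h X ρ := by
        refine ⟨ha, fun u hu => ?_⟩
        have huP : u ∈ PJ cs h T X J := B_le_PJ (RGD.U_le_B hu)
        have h5 := hv u hu
        rw [map_add] at h5
        have h6 : ρ u a - a ∈ N.toSubmodule ⊓ N'.toSubmodule := by
          refine ⟨N.toSubmodule.sub_mem (hNs u huP a ha) ha, ?_⟩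
          have h7 : ρ u a - a = b - ρ u b := by
            rw [sub_eq_sub_iff_add_eq_add, h5]
            exact add_comm _ _
          rw [h7]
          exact N'.toSubmodule.sub_mem hb' (N'.apply_mem_toSubmodule ⟨u, huP⟩ hb')
        rw [hN'.inf_eq_bot, Submodule.mem_bot] at h6
        exact sub_eq_zero.1 h6
      rw [hb, Submodule.mem_bot] at h4
      rw [h4, zero_add]
      exact hb'
    have h3 := gen_VJ R hG hρ h0 J (S := N'.toSubmodule) fun g hg v hv =>
      N'.apply_mem_toSubmodule ⟨g, hg⟩ (h2 v hv)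
    apply hN0
    rw [eq_bot_iff]
    intro x hx
    have h4 : x ∈ N.toSubmodule ⊓ N'.toSubmodule := ⟨hx, h3 (hNU hx)⟩
    rw [hN'.inf_eq_bot] at h4
    exact h4
  obtain ⟨l, v, hv, hv0, hvl⟩ := exists_eig hT hNU fun s hs v hv =>
    ⟨hNs s (B_le_PJ (RGD.T_le_B hs)) v hv.1, rho_VU R (RGD.T_le_B hs) hv.2⟩
  have hl : Vl cs h T X ρ l ≠ ⊥ := by
    intro hb
    have h2 : v ∈ Vl cs h T X ρ l := ⟨hv.2, hvl⟩
    rw [hb] at h2
    exact hv0 h2
  obtain ⟨w, hw, l', hm, K, hK, hst⟩ := hcon l hl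
  obtain ⟨x, hx, hx0, hxl⟩ := exists_mem_of_mv R hNs hw hm ⟨v, hv.1, hv0, hv.2, hvl⟩
  have hxl' := hxl
  rw [Vl_eq R] at hxl'
  -- the Borel subgroup of `P_J`
  set B' : Subgroup (PJ cs h T X J) := (RGD.B cs h T X).comap ι with hB'
  set m : B' →* ℂˣ := (lamB R l').comp (ι.subgroupComap (RGD.B cs h T X)) with hm'
  have hmb : ∀ b (hb : b ∈ RGD.B cs h T X), m ⟨⟨b, B_le_PJ hb⟩, hb⟩ = lamB R l' ⟨b, hb⟩ := fun b hb => rfl
  set e : Module.End ℂ N.toSubmodule := el N.toRepresentation B' m with he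
  refine char_zero_sum hNi (B := B') (l := m) ?_ ?_
  · intro hb
    have h2 : (⟨x, hx⟩ : N.toSubmodule) ∈ eig N.toRepresentation B' m := by
      rw [mem_eig_sub, mem_eig_comap ι hB]
      exact hxl'
    rw [hb] at h2
    exact hx0 (congrArg Subtype.val h2)
  -- the function on `P_J`
  have hel : ∀ b (hb : b ∈ RGD.B cs h T X), e * N.toRepresentation ⟨b, B_le_PJ hb⟩ = (lamB R l' ⟨b, hb⟩ : ℂ) • e := by
    intro b hb
    ext v
    have := el_rho N.toRepresentation B' m ⟨⟨b, B_le_PJ hb⟩, hb⟩ v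
    rw [hmb] at this
    exact congrArg Subtype.val this
  have her : ∀ b (hb : b ∈ RGD.B cs h T X), N.toRepresentation ⟨b, B_le_PJ hb⟩ * e = (lamB R l' ⟨b, hb⟩ : ℂ) • e := by
    intro b hb
    ext v
    have := rho_el N.toRepresentation B' m ⟨⟨b, B_le_PJ hb⟩, hb⟩ v
    rw [hmb] at this
    exact congrArg Subtype.val this
  have hF : ∀ (b₁ : Y) (hb₁ : b₁ ∈ RGD.B cs h T X) (k : PJ cs h T X J) (b₂ : Y) (hb₂ : b₂ ∈ RGD.B cs h T X),
      LinearMap.trace ℂ N.toSubmodule (e * N.toRepresentation (⟨b₁, B_le_PJ hb₁⟩ * k * ⟨b₂, B_le_PJ hb₂⟩)) =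
        (lamB R l' ⟨b₁, hb₁⟩ : ℂ) * (lamB R l' ⟨b₂, hb₂⟩ : ℂ) * LinearMap.trace ℂ N.toSubmodule (e * N.toRepresentation k) := by
    intro b₁ hb₁ k b₂ hb₂
    have e1 : e * N.toRepresentation (⟨b₁, B_le_PJ hb₁⟩ * k * ⟨b₂, B_le_PJ hb₂⟩) =
        ((lamB R l' ⟨b₁, hb₁⟩ : ℂ) • (e * N.toRepresentation k)) * N.toRepresentation ⟨b₂, B_le_PJ hb₂⟩ := by
      rw [N.toRepresentation.map_mul, N.toRepresentation.map_mul, ← mul_assoc, ← mul_assoc, hel, smul_mul_assoc]
    have e2 : N.toRepresentation ⟨b₂, B_le_PJ hb₂⟩ * ((lamB R l' ⟨b₁, hb₁⟩ : ℂ) • (e * N.toRepresentation k)) =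
        ((lamB R l' ⟨b₁, hb₁⟩ : ℂ) * (lamB R l' ⟨b₂, hb₂⟩ : ℂ)) • (e * N.toRepresentation k) := by
      rw [mul_smul_comm, ← mul_assoc, her, smul_mul_assoc, smul_smul]
    rw [e1, LinearMap.trace_mul_comm, e2, map_smul, smul_eq_mul]
  have hcex : ∀ z : PJ cs h T X J, ∃ w, Cell R.nsys cs h X w (z : Y) := fun z => by
    obtain ⟨w, -, hc⟩ := (mem_PJ_iff_cell R).1 z.2
    exact ⟨w, hc⟩
  choose cell hcell using hcex
  have hcu : ∀ (z : PJ cs h T X J) (w : W), cell z = w ↔ Cell R.nsys cs h X w (z : Y) := fun z w =>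
    ⟨fun hz => hz ▸ hcell z, fun hz => Cell.unique R (hcell z) hz⟩
  refine sum_cells cell (fun z => LinearMap.trace ℂ N.toSubmodule (e * N.toRepresentation z)) _ fun w' => ?_
  by_cases hw' : w' ∈ WJ cs J
  swap
  · left
    intro g hg
    apply hw'
    rw [hcu] at hg
    exact (cell_mem_PJ_iff R hg).1 (g⁻¹ * ⟨t, htP⟩ * g).2
  by_cases hwK : w' ∈ WJ cs K
  · left
    intro g hg
    rw [hcu] at hg
    exact ht.not_mem R hK g.2 ((cell_mem_PJ_iff R hg).2 hwK)
  right
  by_cases hmv : Mv cs R.nsys w' l' l'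
  swap
  · left
    intro z hz
    rw [hcu] at hz
    obtain ⟨b₁, hb₁, k, hk, b₂, hb₂, ez⟩ := hz
    have hkP : k ∈ PJ cs h T X J := LJ_le_PJ (rp_mem_LJ R hw' hk)
    have ez' : z = ⟨b₁, B_le_PJ hb₁⟩ * ⟨k, hkP⟩ * ⟨b₂, B_le_PJ hb₂⟩ := Subtype.ext ez
    rw [ez', hF b₁ hb₁ ⟨k, hkP⟩ b₂ hb₂]
    have hee : e * e = e := LinearMap.ext fun v => el_idem N.toRepresentation B' m v
    have h5 : e * N.toRepresentation ⟨k, hkP⟩ * e = 0 := by
      apply LinearMap.ext
      intro v
      apply Subtype.ext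
      rw [Module.End.mul_apply, Module.End.mul_apply, he, el_sub, el_comap ι (Subgroup.subtype_injective _) hB]
      have hy : ((el N.toRepresentation B' m v : N.toSubmodule) : V) ∈ Vl cs h T X ρ l' := by
        have := el_mem N.toRepresentation B' m v
        rw [mem_eig_sub, mem_eig_comap ι hB, ← Vl_eq R] at this
        exact this
      exact el_rho_eq_zero R hk hmv hy
    have h6 : LinearMap.trace ℂ N.toSubmodule (e * N.toRepresentation ⟨k, hkP⟩) = 0 := by
      rw [← hee, mul_assoc, LinearMap.trace_mul_comm, h5, map_zero]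
    rw [h6, mul_zero]
  · right
    obtain ⟨d, hd, g₀, hg₀, s, hs, hls⟩ := hst w' hw' hwK hmv
    obtain ⟨hDia, a, ha, hda⟩ := hD d hd
    -- `d` restricted to `P_J`
    have hdP : ∀ z ∈ PJ cs h T X J, d z ∈ PJ cs h T X J := fun z hz => hDia.PJ_mem hz
    let dP : PJ cs h T X J →* PJ cs h T X J := (d.toMonoidHom.comp (PJ cs h T X J).subtype).codRestrict _ fun z => hdP z z.2
    have hdi : Function.Injective dP := fun z z' ez => Subtype.ext (d.injective (congrArg Subtype.val ez))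
    let dE : PJ cs h T X J ≃* PJ cs h T X J := MulEquiv.ofBijective dP (Finite.injective_iff_bijective.1 hdi)
    have hdE : ∀ z, ((dE z : PJ cs h T X J) : Y) = d z := fun z => rfl
    refine ⟨dE, (l' s : ℂ), ⟨a, LJ_le_PJ ha⟩, ?_, ?_, ?_, ?_⟩
    · intro h5
      exact hls (Units.ext h5)
    · exact Subtype.ext hda
    · intro z
      rw [hcu, hcu, hdE]
      constructor
      · intro hz
        have h5 := hDia.cell (hcell z)
        have h6 : cell z = w' := Cell.unique R h5 hz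
        rw [← h6]
        exact hcell z
      · exact fun hz => hDia.cell hz
    · intro z hz
      rw [hcu] at hz
      obtain ⟨b₁, hb₁, k, hk, b₂, hb₂, ez⟩ := hz
      have hg₀P : g₀ ∈ PJ cs h T X J := LJ_le_PJ (rp_mem_LJ R hw' hg₀)
      have h5 : g₀⁻¹ * k ∈ T := hg₀.unique hk
      have hb₂' : g₀⁻¹ * k * b₂ ∈ RGD.B cs h T X := mul_mem (RGD.T_le_B h5) hb₂
      have ez' : z = ⟨b₁, B_le_PJ hb₁⟩ * ⟨g₀, hg₀P⟩ * ⟨g₀⁻¹ * k * b₂, B_le_PJ hb₂'⟩ := Subtype.ext (by
        change (z : Y) = b₁ * g₀ * (g₀⁻¹ * k * b₂)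
        rw [ez]; group)
      have hsd : (s : Y) * d (g₀⁻¹ * k * b₂) ∈ RGD.B cs h T X := mul_mem (RGD.T_le_B s.2) (hDia.B_mem hb₂')
      have ez2 : dE z = ⟨d b₁, B_le_PJ (hDia.B_mem hb₁)⟩ * ⟨g₀, hg₀P⟩ * ⟨s * d (g₀⁻¹ * k * b₂), B_le_PJ hsd⟩ :=
        Subtype.ext (by
          change d (z : Y) = d b₁ * g₀ * (s * d (g₀⁻¹ * k * b₂))
          rw [hs, ez, map_mul, map_mul, map_mul, map_mul, map_inv]
          group)
      change LinearMap.trace ℂ N.toSubmodule (e * N.toRepresentation (dE z)) =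
        (l' s : ℂ) * LinearMap.trace ℂ N.toSubmodule (e * N.toRepresentation z)
      rw [ez2, hF _ (hDia.B_mem hb₁) _ _ hsd, ez', hF b₁ hb₁ _ _ hb₂', hDia.lam R l' hb₁]
      have h6 : lamB R l' ⟨s * d (g₀⁻¹ * k * b₂), hsd⟩ = l' s * lamB R l' ⟨g₀⁻¹ * k * b₂, hb₂'⟩ := by
        have h7 : (⟨s * d (g₀⁻¹ * k * b₂), hsd⟩ : RGD.B cs h T X) =
            ⟨s, RGD.T_le_B s.2⟩ * ⟨d (g₀⁻¹ * k * b₂), hDia.B_mem hb₂'⟩ := rfl
        rw [h7, map_mul, lamB_T R l' s.2, hDia.lam R l' hb₂']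
      rw [h6, Units.val_mul]
      ring

end Cfsg.Agent.H200.VZ
end

-- part: H200/VZ/Dat
section
/-!
# S4842: the torus data used for `V^B ≠ 0` (helper200)

* `TD A' hh` : homomorphisms `hh j : X0 → T` ("coroots") generating `T`, with the action of the `n i`;
* `HD hh J t` : the diagonal automorphisms ("fundamental coweights") `d` with `d (n j) = n j hh_j(x)`,
  `d (n i) = n i`, `i ≠ j`; they fix the `L_J`-class of `t`.
-/

set_option autoImplicit false
set_option linter.unusedSectionVars false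

open Cfsg

namespace Cfsg.Agent.H200.VZ

open CoxeterSystem Cfsg.Agent.ChevalleyStructure.CoxeterGeom Cfsg.Agent.Tits.Roots Cfsg.Agent.Tits.Core
  Cfsg.Agent.Tits.Exchange Cfsg.Agent.Nodes.Reps Cfsg.Agent.Nodes.BNOf Cfsg.Agent.Nodes.StabComb
  Cfsg.Agent.Nodes.Bruhat Cfsg.Agent.Nodes.OppDec Cfsg.Agent.Nodes.LeviDec Cfsg.Agent.H985.VZ Module

universe u v

variable {I W : Type*} {Y : Type u} [Fintype I] [DecidableEq I] [Group W] [Group Y] {M : CoxeterMatrix I}

/-- the coroots -/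
structure TD (T : Subgroup Y) (n : I → Y) {X0 : Type*} [Group X0] (A' : I → I → ℤ) (hh : I → X0 →* Y) : Prop where
  mem : ∀ j x, hh j x ∈ T
  conj : ∀ i j x, (n i)⁻¹ * hh j x * n i = hh j x * (hh i x) ^ (-A' j i)
  gen : T ≤ Subgroup.closure {y | ∃ j x, y = hh j x}

/-- the fundamental coweights, fixing the class of `t` -/
def HD (cs : CoxeterSystem M W) {A : I → I → ℤ} (h : IsCartan M A) (T : Subgroup Y) (n : I → Y)
    (X : (I → ℤ) → Subgroup Y) {X0 : Type*} [Group X0] (hh : I → X0 →* Y) (J : Set I) (t : Y) : Prop :=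
  ∀ j x, ∃ d : Y ≃* Y, Dia cs h T n X d ∧ (n j)⁻¹ * d (n j) = hh j x ∧ (∀ i, i ≠ j → d (n i) = n i) ∧
    ∃ a ∈ LJ cs h T X J, d t = a * t * a⁻¹

/-- the exponents of the coroots, type `C_n` (`o = false`) or `B_n` (`o = true`): `A' j i = ⟨coroot j, root i⟩` -/
def Ap (o : Bool) (n : ℕ) (j i : Fin n) : ℤ :=
  if i = j then 2
  else if (j : ℕ) + 1 = i then (if (i : ℕ) + 1 = n ∧ o = false then -2 else -1)
  else if (i : ℕ) + 1 = j then (if (j : ℕ) + 1 = n ∧ o = true then -2 else -1)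
  else 0

end Cfsg.Agent.H200.VZ
end

private theorem dce_cea9e18e66e9 : _root_.True := by
  try have : _root_.True := by simp only [_root_.Cfsg.Agent.Nodes.Reps.Rp.congr_simp]
  exact _root_.True.intro
end

-- part: H644/OZ/Dg
section
prune_inst 0x41520254555e20200401c000212001ca7bb000122004b0000a9040c000dc82e22a0c12e61100001008a1204c5283d006001100110422000000a000000011d0481000110062140010842001e000180010000000000000000000000000000000000204010000
set_option linter.all false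
open scoped Cfsg.Agent.FastGrp

/-!
# Diagonal elements of a Witt frame (S4842, helper644)

`H` bilinear (`σ = 1`), `Fr` a Witt frame with anisotropic part `V0`.

* `dg Fr s s0` : `b x ↦ s x • b x`, `w ↦ s0 • w` on `V0`; `dg_mul`, `ext_b`, `conj_dg`;
* `cc e x` : the cocharacter `e` at `x`; `sE i e` the simple reflection, `sE_eq`;
* `nX_dg`, `nZ_dg` : the coroot elements are products of root elements.
-/

set_option autoImplicit false
set_option linter.unusedSectionVars false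

namespace Cfsg.Agent.H644.OZ

open Cfsg.Agent.Nodes.TypeC Cfsg.Agent.Nodes.WittRoot Cfsg.Agent.Nodes.WittRGD
open Cfsg.Agent.TitsThree Cfsg.Agent.TitsThree.Siegel Cfsg.Agent.TitsThree.WittFrame Cfsg.Agent.TitsThree.WittWeyl

variable {F : Type*} [Field F] {V : Type*} [AddCommGroup V] [Module F V] {H : HForm F V} {n : ℕ}
  (Fr : Frame H (Fin n))

/-- the coordinate of `b x` -/
def cf (x : Fin n × Bool) : V →ₗ[F] F where
  toFun v := H.h v (Fr.b (neg x)) * (Fr.η (neg x))⁻¹
  map_add' v w := by rw [H.add_left, add_mul]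
  map_smul' c v := by rw [H.smul_left, mul_assoc]; rfl

theorem cf_apply (x : Fin n × Bool) (v : V) : cf Fr x v = H.h v (Fr.b (neg x)) * (Fr.η (neg x))⁻¹ := rfl

theorem cf_b (x y : Fin n × Bool) : cf Fr x (Fr.b y) = if y = x then 1 else 0 := by
  rw [cf_apply]
  by_cases h : y = x
  · subst h
    rw [if_pos rfl, Fr.hb_self_neg, mul_inv_cancel₀ (Fr.η_ne _)]
  · rw [if_neg h, Fr.hb_ne, zero_mul]
    intro e
    apply h
    have := congrArg neg e
    rw [neg_neg, neg_neg] at this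
    exact this.symm

theorem cf_V0 (x : Fin n × Bool) {w : V} (hw : w ∈ Fr.V0) : cf Fr x w = 0 := by
  rw [cf_apply, Fr.h0' _ hw, zero_mul]

/-- diagonal maps -/
def dgL (s : Fin n × Bool → F) (s0 : F) : V →ₗ[F] V :=
  s0 • LinearMap.id + ∑ x, (s x - s0) • (cf Fr x).smulRight (Fr.b x)

theorem dgL_apply (s : Fin n × Bool → F) (s0 : F) (v : V) :
    dgL Fr s s0 v = s0 • v + ∑ x, ((s x - s0) * cf Fr x v) • Fr.b x := by
  unfold dgL
  rw [LinearMap.add_apply, LinearMap.smul_apply, LinearMap.id_apply, LinearMap.sum_apply]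
  congr 1
  refine Finset.sum_congr rfl fun x _ => ?_
  rw [LinearMap.smul_apply, LinearMap.smulRight_apply, smul_smul]

theorem dgL_b (s : Fin n × Bool → F) (s0 : F) (x : Fin n × Bool) : dgL Fr s s0 (Fr.b x) = s x • Fr.b x := by
  rw [dgL_apply, Finset.sum_eq_single x]
  · rw [cf_b, if_pos rfl, mul_one, ← add_smul, add_sub_cancel]
  · intro y _ hy
    rw [cf_b, if_neg hy.symm, mul_zero, zero_smul]
  · intro h
    exact absurd (Finset.mem_univ x) h

theorem dgL_V0 (s : Fin n × Bool → F) (s0 : F) {w : V} (hw : w ∈ Fr.V0) : dgL Fr s s0 w = s0 • w := by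
  rw [dgL_apply, Finset.sum_eq_zero, add_zero]
  intro x _
  rw [cf_V0 Fr x hw, mul_zero, zero_smul]

theorem cf_dgL (s : Fin n × Bool → F) (s0 : F) (x : Fin n × Bool) (v : V) :
    cf Fr x (dgL Fr s s0 v) = s x * cf Fr x v := by
  rw [dgL_apply, map_add, map_smul, map_sum, Finset.sum_eq_single x]
  · rw [map_smul, cf_b, if_pos rfl, smul_eq_mul, smul_eq_mul]
    ring
  · intro y _ hy
    rw [map_smul, cf_b, if_neg hy, smul_zero]
  · intro h
    exact absurd (Finset.mem_univ x) h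

theorem dgL_dgL (s s' : Fin n × Bool → F) (s0 s0' : F) (v : V) :
    dgL Fr s s0 (dgL Fr s' s0' v) = dgL Fr (fun x => s x * s' x) (s0 * s0') v := by
  rw [dgL_apply, dgL_apply Fr (fun x => s x * s' x)]
  simp only [cf_dgL]
  rw [dgL_apply, smul_add, smul_smul, Finset.smul_sum, add_assoc, ← Finset.sum_add_distrib]
  congr 1
  refine Finset.sum_congr rfl fun x _ => ?_
  rw [smul_smul, ← add_smul]
  congr 1
  ring

theorem dgL_one (v : V) : dgL Fr (fun _ => 1) 1 v = v := by
  rw [dgL_apply, one_smul, Finset.sum_eq_zero, add_zero]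
  intro x _
  rw [sub_self, zero_mul, zero_smul]

/-- **diagonal elements** -/
def dg (s : Fin n × Bool → Fˣ) (s0 : Fˣ) : V ≃ₗ[F] V where
  toFun := dgL Fr (fun x => (s x : F)) s0
  map_add' := (dgL Fr (fun x => (s x : F)) s0).map_add
  map_smul' := (dgL Fr (fun x => (s x : F)) s0).map_smul
  invFun := dgL Fr (fun x => ((s x)⁻¹ : Fˣ)) (s0⁻¹ : Fˣ)
  left_inv v := by
    change dgL Fr _ _ (dgL Fr _ _ v) = v
    rw [dgL_dgL]
    simp only [Units.inv_mul]
    exact dgL_one Fr v
  right_inv v := by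
    change dgL Fr _ _ (dgL Fr _ _ v) = v
    rw [dgL_dgL]
    simp only [Units.mul_inv]
    exact dgL_one Fr v

theorem dg_apply (s : Fin n × Bool → Fˣ) (s0 : Fˣ) (v : V) :
    dg Fr s s0 v = (s0 : F) • v + ∑ x, (((s x : F) - s0) * cf Fr x v) • Fr.b x := dgL_apply Fr _ _ v

theorem dg_b (s : Fin n × Bool → Fˣ) (s0 : Fˣ) (x : Fin n × Bool) : dg Fr s s0 (Fr.b x) = (s x : F) • Fr.b x :=
  dgL_b Fr _ _ x

theorem dg_V0 (s : Fin n × Bool → Fˣ) (s0 : Fˣ) {w : V} (hw : w ∈ Fr.V0) : dg Fr s s0 w = (s0 : F) • w :=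
  dgL_V0 Fr _ _ hw

theorem dg_mul (s s' : Fin n × Bool → Fˣ) (s0 s0' : Fˣ) : dg Fr (s * s') (s0 * s0') = dg Fr s s0 * dg Fr s' s0' := by
  refine LinearEquiv.ext fun v => ?_
  exact (dgL_dgL Fr (fun x => (s x : F)) (fun x => (s' x : F)) s0 s0' v).symm

theorem dg_one : dg Fr 1 1 = 1 := LinearEquiv.ext fun v => dgL_one Fr v

theorem mono_dg (s : Fin n × Bool → Fˣ) (s0 : Fˣ) : Mono Fr (dg Fr s s0) id := fun x =>
  ⟨s x, (s x).ne_zero, dg_b Fr s s0 x⟩

variable {Fr} in
/-- two linear automorphisms which agree on the frame and on `V0` are equal -/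
theorem ext_b (hV0 : ∀ v, (∀ x, H.h v (Fr.b x) = 0) → v ∈ Fr.V0) {g g' : V ≃ₗ[F] V}
    (hb : ∀ x, g (Fr.b x) = g' (Fr.b x)) (h0 : ∀ w ∈ Fr.V0, g w = g' w) : g = g' := by
  refine LinearEquiv.ext fun v => ?_
  have hw : v - ∑ x, cf Fr x v • Fr.b x ∈ Fr.V0 := by
    apply hV0
    intro y
    have h1 : H.h (∑ x, cf Fr x v • Fr.b x) (Fr.b y) = H.h v (Fr.b y) := by
      have h2 : ∀ t : Finset (Fin n × Bool), H.h (∑ x ∈ t, cf Fr x v • Fr.b x) (Fr.b y) =
          ∑ x ∈ t, cf Fr x v * H.h (Fr.b x) (Fr.b y) := by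
        intro t
        induction t using Finset.induction_on with
        | empty => rw [Finset.sum_empty, Finset.sum_empty, H.zero_left]
        | insert a t ha ih => rw [Finset.sum_insert ha, Finset.sum_insert ha, H.add_left, H.smul_left, ih]
      rw [h2, Finset.sum_eq_single (neg y)]
      · rw [Fr.hb_neg_self, cf_apply, neg_neg, mul_assoc, inv_mul_cancel₀ (Fr.η_ne y), mul_one]
      · intro x _ hx
        rw [Fr.hb_ne, mul_zero]
        intro e
        apply hx
        rw [e, neg_neg]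
      · intro h
        exact absurd (Finset.mem_univ _) h
    rw [H.sub_left, h1, sub_self]
  have h1 := h0 _ hw
  rw [map_sub, map_sub, map_sum, map_sum] at h1
  have h2 : ∑ x, g (cf Fr x v • Fr.b x) = ∑ x, g' (cf Fr x v • Fr.b x) :=
    Finset.sum_congr rfl fun x _ => by rw [map_smul, map_smul, hb]
  rw [h2] at h1
  exact sub_left_injective h1

variable {Fr} in
/-- conjugation by a monomial element -/
theorem conj_dg (hV0 : ∀ v, (∀ x, H.h v (Fr.b x) = 0) → v ∈ Fr.V0) {k : V ≃ₗ[F] V} {π : Fin n × Bool → Fin n × Bool}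
    (hk : Mono Fr k π) (hk0 : ∀ w ∈ Fr.V0, k w ∈ Fr.V0) (s : Fin n × Bool → Fˣ) (s0 : Fˣ) :
    k⁻¹ * dg Fr s s0 * k = dg Fr (fun x => s (π x)) s0 := by
  have h1 : dg Fr s s0 * k = k * dg Fr (fun x => s (π x)) s0 := by
    refine ext_b hV0 (fun x => ?_) fun w hw => ?_
    · obtain ⟨l, -, e⟩ := hk x
      rw [mul_apply', mul_apply', e, map_smul, dg_b, dg_b, map_smul, e, smul_smul, smul_smul, mul_comm]
    · rw [mul_apply', mul_apply', dg_V0 Fr _ _ hw, dg_V0 Fr _ _ (hk0 w hw), map_smul]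
  rw [mul_assoc, h1, inv_mul_cancel_left]

/-! ### Cocharacters -/

/-- `b (k, +) ↦ l k`, `b (k, -) ↦ (l k)⁻¹` -/
def lam (l : Fin n → Fˣ) : Fin n × Bool → Fˣ := fun y => if y.2 then l y.1 else (l y.1)⁻¹

theorem lam_true (l : Fin n → Fˣ) (k : Fin n) : lam l (k, true) = l k := rfl

theorem lam_false (l : Fin n → Fˣ) (k : Fin n) : lam l (k, false) = (l k)⁻¹ := rfl

theorem lam_mul (l l' : Fin n → Fˣ) : lam (l * l') = lam l * lam l' := by
  funext y
  obtain ⟨k, b⟩ := y
  cases b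
  · show (l k * l' k)⁻¹ = (l k)⁻¹ * (l' k)⁻¹
    rw [mul_inv]
  · rfl

theorem lam_one : lam (1 : Fin n → Fˣ) = 1 := by
  funext y
  unfold lam
  split_ifs <;> simp

/-- the cocharacter `e` -/
def cc (e : Fin n → ℤ) (x : Fˣ) : Fin n × Bool → Fˣ := lam fun k => x ^ e k

theorem cc_add (e e' : Fin n → ℤ) (x : Fˣ) : cc (e + e') x = cc e x * cc e' x := by
  unfold cc
  rw [← lam_mul]
  congr 1
  funext k
  rw [Pi.add_apply, Pi.mul_apply, zpow_add]

theorem cc_mul (e : Fin n → ℤ) (x y : Fˣ) : cc e (x * y) = cc e x * cc e y := by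
  unfold cc
  rw [← lam_mul]
  congr 1
  funext k
  rw [Pi.mul_apply, mul_zpow]

theorem cc_one (e : Fin n → ℤ) : cc e (1 : Fˣ) = 1 := by
  unfold cc
  simp only [one_zpow]
  exact lam_one

theorem cc_zero (x : Fˣ) : cc (0 : Fin n → ℤ) x = 1 := by
  unfold cc
  simp only [Pi.zero_apply, zpow_zero]
  exact lam_one

theorem cc_smul (c : ℤ) (e : Fin n → ℤ) (x : Fˣ) : cc (c • e) x = (cc e x) ^ c := by
  funext y
  rw [Pi.pow_apply]
  obtain ⟨k, b⟩ := y
  cases b
  · show (x ^ (c * e k))⁻¹ = ((x ^ e k)⁻¹) ^ c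
    rw [mul_comm, zpow_mul, inv_zpow]
  · show x ^ (c * e k) = (x ^ e k) ^ c
    rw [mul_comm, zpow_mul]

/-- the simple reflection -/
def sE (i : Fin n) (e : Fin n → ℤ) : Fin n → ℤ := fun k =>
  if h : (i : ℕ) + 1 < n then (if k = i then e ⟨i + 1, h⟩ else if k = ⟨i + 1, h⟩ then e i else e k)
  else (if k = i then -e k else e k)

theorem cc_sg (i : Fin n) (e : Fin n → ℤ) (x : Fˣ) : (fun y => cc e x (sg i y)) = cc (sE i e) x := by
  funext y
  obtain ⟨k, b⟩ := y
  unfold cc lam sg sE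
  by_cases h : (i : ℕ) + 1 < n
  · simp only [dif_pos h]
    by_cases h1 : k = i
    · simp only [h1, if_true]
    · by_cases h2 : k = ⟨i + 1, h⟩
      · simp only [h1, h2, if_false, if_true]
        have h3 : (⟨(i : ℕ) + 1, h⟩ : Fin n) ≠ i := by simp [Fin.ext_iff]
        simp only [h3, if_false]
      · simp only [h1, h2, if_false]
  · simp only [dif_neg h]
    by_cases h1 : k = i
    · simp only [h1, if_true]
      cases b
      · simp
      · simp
    · simp only [h1, if_false]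

/-- the coroots of type `B` -/
def co (j : Fin n) : Fin n → ℤ := fun k =>
  if k = j then (if (j : ℕ) + 1 = n then 2 else 1) else if (k : ℕ) = j + 1 then -1 else 0

/-- minus the fundamental coweights of type `B` -/
def cw (j : Fin n) : Fin n → ℤ := fun k => if (k : ℕ) ≤ j then -1 else 0

theorem sE_cw (i j : Fin n) : sE i (cw j) = cw j + (if i = j then co j else 0) := by
  funext k
  have hi := i.2
  have hj := j.2
  have hk := k.2
  unfold sE cw co
  by_cases h : (i : ℕ) + 1 < n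
  · simp only [dif_pos h, Pi.add_apply]
    by_cases h1 : k = i
    · subst h1
      by_cases h2 : k = j
      · subst h2
        simp only [if_true]
        (first | (lia; done) | (split_ifs <;> omega))
      · have h2' : (k : ℕ) ≠ j := fun h => h2 (Fin.ext h)
        simp only [if_true, if_neg h2, Pi.zero_apply]
        split_ifs <;> omega
    · have h1' : (k : ℕ) ≠ i := fun h => h1 (Fin.ext h)
      by_cases h3 : k = ⟨i + 1, h⟩
      · have h3' : (k : ℕ) = i + 1 := congrArg Fin.val h3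
        by_cases h2 : i = j
        · subst h2
          simp only [if_neg h1, if_pos h3, if_true]
          (first | (lia; done) | (split_ifs <;> omega))
        · have h2' : (i : ℕ) ≠ j := fun h => h2 (Fin.ext h)
          simp only [if_neg h1, if_pos h3, if_neg h2, Pi.zero_apply]
          (first | (lia; done) | (split_ifs <;> omega))
      · have h3' : (k : ℕ) ≠ i + 1 := fun h => h3 (Fin.ext h)
        by_cases h2 : i = j
        · subst h2
          simp only [if_neg h1, if_neg h3, if_true]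
          split_ifs <;> omega
        · simp only [if_neg h1, if_neg h3, if_neg h2, Pi.zero_apply, add_zero]
  · simp only [dif_neg h, Pi.add_apply]
    by_cases h1 : k = i
    · subst h1
      by_cases h2 : k = j
      · subst h2
        simp only [if_true]
        split_ifs <;> omega
      · have h2' : (k : ℕ) ≠ j := fun h => h2 (Fin.ext h)
        simp only [if_true, if_neg h2, Pi.zero_apply]
        split_ifs <;> omega
    · have h1' : (k : ℕ) ≠ i := fun h => h1 (Fin.ext h)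
      by_cases h2 : i = j
      · subst h2
        simp only [if_neg h1, if_true]
        (first | (lia; done) | (split_ifs <;> omega))
      · simp only [if_neg h1, if_neg h2, Pi.zero_apply, add_zero]

/-- the pairing of the coroot `j` with the root `i` -/
def prB (j i : Fin n) : ℤ :=
  if i = j then 2 else if (j : ℕ) + 1 = i then -1
  else if (i : ℕ) + 1 = j then (if (j : ℕ) + 1 = n then -2 else -1) else 0

theorem sE_co (i j : Fin n) : sE i (co j) = co j + (-prB j i) • co i := by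
  funext k
  have hi := i.2
  have hj := j.2
  have hk := k.2
  rw [Pi.add_apply, Pi.smul_apply, smul_eq_mul]
  unfold sE co prB
  simp only [Fin.ext_iff]
  by_cases h : (i : ℕ) + 1 < n
  · simp only [dif_pos h]
    (first | (lia; done) | (split_ifs <;> omega))
  · simp only [dif_neg h]
    (first | (lia; done) | (split_ifs <;> omega))

/-- reduction to the last coordinate -/
theorem exists_last (hn : 0 < n) {C : Subgroup (V ≃ₗ[F] V)}
    (hC : ∀ j : Fin n, (j : ℕ) + 1 < n → ∀ x, dg Fr (cc (co j) x) 1 ∈ C) (l : Fin n → Fˣ) :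
    ∃ c ∈ C, ∃ y : Fˣ, dg Fr (lam l) 1 = c * dg Fr (lam (Function.update 1 ⟨n - 1, by omega⟩ y)) 1 := by
  have key : ∀ m : ℕ, m + 1 ≤ n → ∀ l : Fin n → Fˣ, (∀ k : Fin n, (k : ℕ) < n - 1 - m → l k = 1) →
      ∃ c ∈ C, ∃ y : Fˣ, dg Fr (lam l) 1 = c * dg Fr (lam (Function.update 1 ⟨n - 1, by omega⟩ y)) 1 := by
    intro m
    induction m with
    | zero =>
      intro _ l hl
      refine ⟨1, one_mem _, l ⟨n - 1, by omega⟩, ?_⟩
      rw [one_mul]
      congr 2
      funext k
      by_cases hk : k = ⟨n - 1, by omega⟩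
      · rw [hk, Function.update_self]
      · rw [Function.update_of_ne hk, Pi.one_apply]
        refine hl k ?_
        have h1 : (k : ℕ) ≠ n - 1 := fun h => hk (Fin.ext h)
        have := k.2
        omega
    | succ m ih =>
      intro hm l hl
      let j : Fin n := ⟨n - 1 - (m + 1), by omega⟩
      have hj1 : (j : ℕ) + 1 < n := by
        show n - 1 - (m + 1) + 1 < n
        omega
      have hcj : ∀ x, dg Fr (cc (co j) x) 1 ∈ C := hC j hj1
      let l' : Fin n → Fˣ := (fun k => (l j) ^ (-(co j k))) * l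
      have hl' : ∀ k : Fin n, (k : ℕ) < n - 1 - m → l' k = 1 := by
        intro k hk
        show (l j) ^ (-(co j k)) * l k = 1
        by_cases hkj : k = j
        · have : co j j = 1 := by
            unfold co
            rw [if_pos rfl, if_neg (by omega)]
          rw [hkj, this, zpow_neg, zpow_one, inv_mul_cancel]
        · have h1 : (k : ℕ) ≠ j := fun h => hkj (Fin.ext h)
          have h2 : (j : ℕ) = n - 1 - (m + 1) := rfl
          have h3 : co j k = 0 := by
            unfold co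
            rw [if_neg hkj, if_neg (by omega)]
          rw [h3, neg_zero, zpow_zero, one_mul]
          exact hl k (by omega)
      obtain ⟨c, hc, y, e⟩ := ih (by omega) l' hl'
      refine ⟨dg Fr (cc (co j) (l j)) 1 * c, mul_mem (hcj _) hc, y, ?_⟩
      have h4 : lam l' = lam (fun k => (l j) ^ (-(co j k))) * lam l := lam_mul _ _
      have h5 : cc (co j) (l j) * lam (fun k => (l j) ^ (-(co j k))) = 1 := by
        unfold cc
        rw [← lam_mul, ← lam_one]
        congr 1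
        funext k
        rw [Pi.mul_apply, ← zpow_add, add_neg_cancel, zpow_zero]
        rfl
      have h6 : dg Fr (cc (co j) (l j)) 1 * dg Fr (lam l') 1 = dg Fr (cc (co j) (l j) * lam l') (1 * 1) :=
        (dg_mul Fr _ _ _ _).symm
      rw [mul_assoc, ← e, h6, h4, ← mul_assoc, h5, one_mul, one_mul]
  exact key (n - 1) (by omega) l (fun k hk => by omega)

end Cfsg.Agent.H644.OZ
end

-- part: H410/OZ/OmF_mg
section
prune_inst 0x4300001014422000040040000000000e13100000000000000088400000108200000000000000000000000000000040020010000000200000000000000000404011000000020400000000010000000010000000000000000000000000000000000204010000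
set_option linter.all false
open scoped Cfsg.Agent.FastGrp

-- part: H410/OZ/OmE
section
/-!
# S4842: elliptic elements of `POmega_{2m+1}(q)`, `m = 3, 4`, `q` odd (helper410)

`J = {i}ᶜ`, `i = m - 1` (torus `q ^ m - 1` of `GL_m`), `i = m - 2` (torus `(q ^ (m - 1) - 1) (q + 1)`).
`adE j C` : the action of `GL₂(F)` on the matrices of trace zero, as isometries of `<e_j, f_j, w>`.
-/

set_option autoImplicit false
set_option linter.unusedSectionVars false

namespace Cfsg.Agent.H410.OZ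

open CoxeterSystem Cfsg.Agent.ChevalleyStructure.CoxeterGeom Cfsg.Agent.Tits.Roots Cfsg.Agent.Nodes.TypeC
open Cfsg.Agent.Nodes Cfsg.Agent.Nodes.Comb Cfsg.Agent.Nodes.Reps Cfsg.Agent.Nodes.WittRoot Cfsg.Agent.Nodes.BNOf
open Cfsg.Agent.Nodes.WittRGD Cfsg.Agent.Nodes.RGDLib Cfsg.Agent.Nodes.WittAll
open Cfsg.Agent.TitsThree Cfsg.Agent.TitsThree.Siegel Cfsg.Agent.TitsThree.WittFrame
  Cfsg.Agent.TitsThree.WittWeyl Cfsg.Agent.TitsThree.FrameCN
open Cfsg.Agent.Nodes.StabComb Cfsg.Agent.Nodes.Bruhat Cfsg.Agent.Nodes.LeviDec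
open Cfsg.Agent.H62.PCFrame Cfsg.Agent.H62.PCWitt Cfsg.Agent.H985.VZ Module
open QuadraticMap Cfsg.Agent.LieClassical Cfsg.Agent.LieClassical.OrthCore Cfsg.Agent.LieClassical.OrthForms
open Cfsg.Agent.TitsThree.KSideO Cfsg.Agent.TitsThree.WBridge Cfsg.Agent.Nodes.WittU Cfsg.Agent.Nodes.WittInst
open scoped MatrixGroups

/-- squares of isometries -/
theorem sq_mem_EQ {F V : Type*} [Field F] [AddCommGroup V] [Module F V] [FiniteDimensional F V]
    {Q : QuadraticForm F V} (hG : LieClassical.OrthTrans.Good Q) {g : V ≃ₗ[F] V} (hg : g ∈ O Q) : g * g ∈ E Q := by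
  rw [O_eq_closure hG.nondeg] at hg
  induction hg using Subgroup.closure_induction with
  | mem x hx =>
    rcases hx with ⟨u, hu, rfl⟩ | hx
    · rw [OrthCore.refl_mul_self]
      exact (E Q).one_mem
    · exact (E Q).mul_mem (Subgroup.subset_closure hx) (Subgroup.subset_closure hx)
  | one => exact (E Q).mul_mem (E Q).one_mem (E Q).one_mem
  | mul x y hx hy ihx ihy =>
    rw [← O_eq_closure hG.nondeg] at hx hy
    have h1 : x * y * (x * y) = x * x * (x⁻¹ * y * x⁻¹⁻¹ * y⁻¹) * (y * y) := by group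
    rw [h1]
    refine (E Q).mul_mem ((E Q).mul_mem ihx ?_) ihy
    rw [← hG.commutator_eq_E]
    exact Subgroup.commutator_mem_commutator ((O Q).inv_mem hx) hy
  | inv x _ ihx =>
    have h1 : x⁻¹ * x⁻¹ = (x * x)⁻¹ := by rw [mul_inv_rev]
    rw [h1]
    exact (E Q).inv_mem ihx

section Ad

variable {F : Type*} [Field F] {m : ℕ} (j : Fin m)

/-- the space -/
abbrev Vo (m : ℕ) (F : Type*) := Unit ⊕ (Fin m ⊕ Fin m) → F

/-- the conjugation action of a matrix on the matrices of trace zero -/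
def adL (B : Matrix (Fin 2) (Fin 2) F) : Vo m F →ₗ[F] Vo m F where
  toFun v := fun t => match t with
    | Sum.inl _ => ((B 0 0 * B 1 1 + B 0 1 * B 1 0) * v (Sum.inl ()) + B 0 1 * B 1 1 * v (Sum.inr (Sum.inr j))
        - B 0 0 * B 1 0 * v (Sum.inr (Sum.inl j))) / (B 0 0 * B 1 1 - B 0 1 * B 1 0)
    | Sum.inr (Sum.inl k) => if k = j then (B 0 0 ^ 2 * v (Sum.inr (Sum.inl j)) - 2 * B 0 0 * B 0 1 * v (Sum.inl ())
        - B 0 1 ^ 2 * v (Sum.inr (Sum.inr j))) / (B 0 0 * B 1 1 - B 0 1 * B 1 0) else v (Sum.inr (Sum.inl k))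
    | Sum.inr (Sum.inr k) => if k = j then (2 * B 1 0 * B 1 1 * v (Sum.inl ()) + B 1 1 ^ 2 * v (Sum.inr (Sum.inr j))
        - B 1 0 ^ 2 * v (Sum.inr (Sum.inl j))) / (B 0 0 * B 1 1 - B 0 1 * B 1 0) else v (Sum.inr (Sum.inr k))
  map_add' v w := by
    funext t
    rcases t with t | (k | k)
    · simp only [Pi.add_apply]; ring
    · simp only [Pi.add_apply]; split_ifs <;> ring
    · simp only [Pi.add_apply]; split_ifs <;> ring
  map_smul' c v := by
    funext t
    rcases t with t | (k | k)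
    · simp only [Pi.smul_apply, smul_eq_mul, RingHom.id_apply]; ring
    · simp only [Pi.smul_apply, smul_eq_mul, RingHom.id_apply]; split_ifs <;> ring
    · simp only [Pi.smul_apply, smul_eq_mul, RingHom.id_apply]; split_ifs <;> ring

theorem adL_z (B : Matrix (Fin 2) (Fin 2) F) (v : Vo m F) : adL j B v (Sum.inl ()) =
    ((B 0 0 * B 1 1 + B 0 1 * B 1 0) * v (Sum.inl ()) + B 0 1 * B 1 1 * v (Sum.inr (Sum.inr j))
        - B 0 0 * B 1 0 * v (Sum.inr (Sum.inl j))) / (B 0 0 * B 1 1 - B 0 1 * B 1 0) := rfl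

theorem adL_x (B : Matrix (Fin 2) (Fin 2) F) (v : Vo m F) : adL j B v (Sum.inr (Sum.inl j)) =
    (B 0 0 ^ 2 * v (Sum.inr (Sum.inl j)) - 2 * B 0 0 * B 0 1 * v (Sum.inl ())
        - B 0 1 ^ 2 * v (Sum.inr (Sum.inr j))) / (B 0 0 * B 1 1 - B 0 1 * B 1 0) := if_pos rfl

theorem adL_y (B : Matrix (Fin 2) (Fin 2) F) (v : Vo m F) : adL j B v (Sum.inr (Sum.inr j)) =
    (2 * B 1 0 * B 1 1 * v (Sum.inl ()) + B 1 1 ^ 2 * v (Sum.inr (Sum.inr j))
        - B 1 0 ^ 2 * v (Sum.inr (Sum.inl j))) / (B 0 0 * B 1 1 - B 0 1 * B 1 0) := if_pos rfl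

theorem adL_x' (B : Matrix (Fin 2) (Fin 2) F) (v : Vo m F) {k : Fin m} (hk : k ≠ j) :
    adL j B v (Sum.inr (Sum.inl k)) = v (Sum.inr (Sum.inl k)) := if_neg hk

theorem adL_y' (B : Matrix (Fin 2) (Fin 2) F) (v : Vo m F) {k : Fin m} (hk : k ≠ j) :
    adL j B v (Sum.inr (Sum.inr k)) = v (Sum.inr (Sum.inr k)) := if_neg hk

theorem adL_mul {B C : Matrix (Fin 2) (Fin 2) F} (hB : B 0 0 * B 1 1 - B 0 1 * B 1 0 ≠ 0)
    (hC : C 0 0 * C 1 1 - C 0 1 * C 1 0 ≠ 0) (v : Vo m F) : adL j (B * C) v = adL j B (adL j C v) := by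
  have hBC : (B * C) 0 0 * (B * C) 1 1 - (B * C) 0 1 * (B * C) 1 0 =
      (B 0 0 * B 1 1 - B 0 1 * B 1 0) * (C 0 0 * C 1 1 - C 0 1 * C 1 0) := by
    simp only [Matrix.mul_apply, Fin.sum_univ_two]; ring
  funext t
  rcases t with t | (k | k)
  · cases t
    rw [adL_z, adL_z, adL_z, adL_x, adL_y, hBC]
    simp only [Matrix.mul_apply, Fin.sum_univ_two]
    field_simp
    ring
  · by_cases hk : k = j
    · subst hk
      rw [adL_x, adL_x, adL_z, adL_x, adL_y, hBC]
      simp only [Matrix.mul_apply, Fin.sum_univ_two]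
      field_simp
      ring
    · rw [adL_x' j _ _ hk, adL_x' j _ _ hk, adL_x' j _ _ hk]
  · by_cases hk : k = j
    · subst hk
      rw [adL_y, adL_y, adL_z, adL_x, adL_y, hBC]
      simp only [Matrix.mul_apply, Fin.sum_univ_two]
      field_simp
      ring
    · rw [adL_y' j _ _ hk, adL_y' j _ _ hk, adL_y' j _ _ hk]

theorem adL_one (v : Vo m F) : adL j 1 v = v := by
  funext t
  rcases t with t | (k | k)
  · cases t
    rw [adL_z]; simp
  · by_cases hk : k = j
    · subst hk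
      rw [adL_x]; simp
    · rw [adL_x' j _ _ hk]
  · by_cases hk : k = j
    · subst hk
      rw [adL_y]; simp
    · rw [adL_y' j _ _ hk]

theorem det_ne (B : GL (Fin 2) F) : B.1 0 0 * B.1 1 1 - B.1 0 1 * B.1 1 0 ≠ 0 := by
  rw [← Matrix.det_fin_two]
  exact (Matrix.isUnit_iff_isUnit_det _).1 ⟨B, rfl⟩ |>.ne_zero

/-- **`GL₂(F)` on `<e_j, f_j, w>`.** -/
def adE : GL (Fin 2) F →* (Vo m F ≃ₗ[F] Vo m F) where
  toFun B := LinearEquiv.ofLinearMap (adL j B.1) (adL j (B⁻¹).1)
    (by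
      refine LinearMap.ext fun v => ?_
      show adL j B.1 (adL j (B⁻¹).1 v) = v
      rw [← adL_mul j (det_ne B) (det_ne B⁻¹), ← Units.val_mul, mul_inv_cancel]
      exact adL_one j v)
    (by
      refine LinearMap.ext fun v => ?_
      show adL j (B⁻¹).1 (adL j B.1 v) = v
      rw [← adL_mul j (det_ne B⁻¹) (det_ne B), ← Units.val_mul, inv_mul_cancel]
      exact adL_one j v)
  map_one' := by
    ext1 v
    exact adL_one j v
  map_mul' B C := by
    ext1 v
    exact adL_mul j (det_ne B) (det_ne C) v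

theorem adE_apply (B : GL (Fin 2) F) (v : Vo m F) : adE j B v = adL j B.1 v := rfl

theorem sum_split (g : Fin m → F) : ∑ k, g k = g j + ∑ k ∈ Finset.univ.erase j, g k :=
  (Finset.add_sum_erase _ _ (Finset.mem_univ j)).symm

theorem adE_mem_O (B : GL (Fin 2) F) : adE j B ∈ O (oddForm m F) := by
  intro v
  rw [coe_oddForm, quadFormOdd_apply, quadFormOdd_apply, sum_split j, sum_split j]
  have h1 : ∑ k ∈ Finset.univ.erase j, adE j B v (Sum.inr (Sum.inl k)) * adE j B v (Sum.inr (Sum.inr k)) =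
      ∑ k ∈ Finset.univ.erase j, v (Sum.inr (Sum.inl k)) * v (Sum.inr (Sum.inr k)) :=
    Finset.sum_congr rfl fun k hk => by
      rw [adE_apply, adL_x' j _ _ (Finset.ne_of_mem_erase hk), adL_y' j _ _ (Finset.ne_of_mem_erase hk)]
  rw [h1, adE_apply, adL_x, adL_y, adL_z]
  have := det_ne B
  field_simp
  ring

end Ad

section Odd

variable {F : Type*} [Field F] {m : ℕ}

theorem h_true (v : Vo m F) (k : Fin m) : (HO (oddForm m F)).h v ((toFrame (wodd m F)).b (k, true)) =
    v (Sum.inr (Sum.inr k)) := by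
  rw [toFrame_b_true, HO_h, polar_oddForm]
  simp only [wodd, Pi.single_apply, _root_.Sum.forall, _root_.ne_eq, _root_.reduceCtorEq, _root_.not_false_eq_true, _root_.Pi.single_eq_of_ne, _root_.MulZeroClass.mul_zero, _root_.Sum.inr.injEq, _root_.Sum.inl.injEq, _root_.ite_mul, _root_.one_mul, _root_.MulZeroClass.zero_mul, _root_.zero_add, _root_.Finset.sum_ite_eq', _root_.Finset.mem_univ, ↓ _root_.reduceIte]

theorem h_false (v : Vo m F) (k : Fin m) : (HO (oddForm m F)).h v ((toFrame (wodd m F)).b (k, false)) =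
    v (Sum.inr (Sum.inl k)) := by
  rw [toFrame_b_false, HO_h, polar_oddForm]
  simp only [wodd, Pi.single_apply, _root_.Sum.forall, _root_.ne_eq, _root_.reduceCtorEq, _root_.not_false_eq_true, _root_.Pi.single_eq_of_ne, _root_.MulZeroClass.mul_zero, _root_.Sum.inr.injEq, _root_.mul_ite, _root_.mul_one, _root_.MulZeroClass.zero_mul, _root_.add_zero, _root_.Finset.sum_ite_eq', _root_.Finset.mem_univ, ↓ _root_.reduceIte, _root_.zero_add]

theorem mem_Mid_odd {i : Fin m} {v : Vo m F} : v ∈ Mid (toFrame (wodd m F)) i ↔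
    ∀ k ≤ i, v (Sum.inr (Sum.inl k)) = 0 ∧ v (Sum.inr (Sum.inr k)) = 0 := by
  constructor
  · intro h k hk
    exact ⟨(h_false v k).symm.trans (h k hk false), (h_true v k).symm.trans (h k hk true)⟩
  · intro h k hk s
    cases s
    · rw [h_false]; exact (h k hk).1
    · rw [h_true]; exact (h k hk).2

theorem nd_odd (h2 : (2 : F) ≠ 0) {v : Vo m F} (h : ∀ w, (HO (oddForm m F)).h v w = 0) : v = 0 :=
  nondeg_oddForm m F h2 v h

theorem h_self {v : Vo m F} (v' : Vo m F) : (HO (oddForm m F)).h v v' = 2 * v (Sum.inl ()) * v' (Sum.inl ()) +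
    ∑ k : Fin m, (v (Sum.inr (Sum.inl k)) * v' (Sum.inr (Sum.inr k)) +
      v' (Sum.inr (Sum.inl k)) * v (Sum.inr (Sum.inr k))) := polar_oddForm m F v v'

theorem iso_odd_last (h2 : (2 : F) ≠ 0) {i : Fin m} (hi : i.1 + 1 = m) (U : Submodule F (Vo m F))
    (hU : U ≤ Mid (toFrame (wodd m F)) i) (h0 : ∀ x ∈ U, ∀ y ∈ U, (HO (oddForm m F)).h x y = 0) : U = ⊥ := by
  rw [eq_bot_iff]
  intro x hx
  rw [Submodule.mem_bot]
  have h1 : ∀ k : Fin m, x (Sum.inr (Sum.inl k)) = 0 ∧ x (Sum.inr (Sum.inr k)) = 0 := fun k =>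
    mem_Mid_odd.1 (hU hx) k (by rw [Fin.le_def]; omega)
  have h3 := h0 x hx x hx
  rw [h_self, Finset.sum_eq_zero fun k _ => by rw [(h1 k).1, (h1 k).2]; ring, add_zero] at h3
  have h4 : x (Sum.inl ()) = 0 := by
    rcases mul_eq_zero.1 h3 with h5 | h5
    · exact (mul_eq_zero.1 h5).resolve_left h2
    · exact h5
  funext t
  rcases t with t | (k | k)
  · exact h4
  · exact (h1 k).1
  · exact (h1 k).2

theorem iso_odd {i j : Fin m} (h2 : (2 : F) ≠ 0) (hi : i.1 + 2 = m) (hj : j.1 + 1 = m) {C : GL (Fin 2) F}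
    (hC : Anis C.1) (U : Submodule F (Vo m F)) (hU : U ≤ Mid (toFrame (wodd m F)) i)
    (h0 : ∀ x ∈ U, ∀ y ∈ U, (HO (oddForm m F)).h x y = 0) (hD : ∀ x ∈ U, adE j C x ∈ U) : U = ⊥ := by
  rw [eq_bot_iff]
  intro x hx
  have h1 : ∀ k : Fin m, k ≠ j → x (Sum.inr (Sum.inl k)) = 0 ∧ x (Sum.inr (Sum.inr k)) = 0 := fun k hk =>
    mem_Mid_odd.1 (hU hx) k (by
      rw [Fin.le_def]
      have : k.1 ≠ j.1 := fun h => hk (Fin.ext h)
      omega)
  set X := x (Sum.inr (Sum.inl j)) with hX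
  set Y := x (Sum.inr (Sum.inr j)) with hY
  set Z := x (Sum.inl ()) with hZ
  have hs : ∀ v' : Vo m F, (HO (oddForm m F)).h x v' = 2 * Z * v' (Sum.inl ()) +
      (X * v' (Sum.inr (Sum.inr j)) + v' (Sum.inr (Sum.inl j)) * Y) := by
    intro v'
    rw [h_self, sum_split j, Finset.sum_eq_zero (s := Finset.univ.erase j) fun k hk => by
      rw [(h1 k (Finset.ne_of_mem_erase hk)).1, (h1 k (Finset.ne_of_mem_erase hk)).2]; ring, add_zero]
  have h3 := h0 x hx x hx
  rw [hs] at h3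
  have h4 : Z ^ 2 = -(X * Y) := by
    have h5 : (2 : F) * (Z ^ 2 + X * Y) = 0 := by
      rw [← h3]; ring
    have h6 := (mul_eq_zero.1 h5).resolve_left h2
    linear_combination h6
  have h5 := h0 x hx _ (hD x hx)
  rw [hs, adE_apply, adL_x, adL_y, adL_z, ← hX, ← hY, ← hZ] at h5
  have hd := det_ne C
  have h6 : (C.1 1 0 * X + (C.1 0 0 - C.1 1 1) * Z + C.1 0 1 * Y) ^ 2 = 0 := by
    field_simp at h5
    linear_combination (-1 : F) * h5 + ((C.1 0 0 - C.1 1 1) ^ 2 + 2 * (C.1 0 0 * C.1 1 1 + C.1 0 1 * C.1 1 0)) * h4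
  have h7 := pow_eq_zero_iff (two_ne_zero) |>.1 h6
  obtain ⟨hX0, hZ0⟩ := hC X Z (by linear_combination X * h7 - C.1 0 1 * h4)
  obtain ⟨-, hY0⟩ := hC Z (-Y) (by linear_combination C.1 1 0 * h4 - Y * h7)
  rw [Submodule.mem_bot]
  funext t
  rcases t with t | (k | k)
  · exact hZ0
  · by_cases hk : k = j
    · subst hk; exact hX0
    · exact (h1 k hk).1
  · by_cases hk : k = j
    · subst hk; exact neg_eq_zero.1 hY0
    · exact (h1 k hk).2

theorem comp_odd {i j : Fin m} (hij : i < j) {C : GL (Fin 2) F} {s : ℕ} (hC : C ^ s = 1) :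
    Comp (toFrame (wodd m F)) i s (adE j C) where
  iso v w := polar_map (adE_mem_O j C) v w
  fix k hk b := by
    have hkj : j ≠ k := by intro h; rw [← h] at hk; exact absurd (lt_of_lt_of_le hij hk) (lt_irrefl _)
    rw [adE_apply]
    funext t
    have e1 : (toFrame (wodd m F)).b (k, b) (Sum.inl ()) = 0 := by cases b <;> simp only [toFrame, wodd, _root_.Sum.forall, _root_.Submodule.mem_mk, _root_.AddSubmonoid.mem_mk, _root_.AddSubsemigroup.mem_mk, _root_.Set.mem_ofPred_eq, _root_.Bool.false_eq_true, ↓ _root_.reduceIte, _root_.ne_eq, _root_.reduceCtorEq, _root_.not_false_eq_true, _root_.Pi.single_eq_of_ne]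
    have e2 : (toFrame (wodd m F)).b (k, b) (Sum.inr (Sum.inl j)) = 0 := by
      cases b
      · simp only [toFrame, wodd, _root_.Sum.forall, _root_.Submodule.mem_mk, _root_.AddSubmonoid.mem_mk, _root_.AddSubsemigroup.mem_mk, _root_.Set.mem_ofPred_eq, _root_.Bool.false_eq_true, ↓ _root_.reduceIte, _root_.ne_eq, _root_.Sum.inr.injEq, _root_.reduceCtorEq, _root_.not_false_eq_true, _root_.Pi.single_eq_of_ne]
      · simp only [toFrame, wodd, hkj, _root_.Sum.forall, _root_.Submodule.mem_mk, _root_.AddSubmonoid.mem_mk, _root_.AddSubsemigroup.mem_mk, _root_.Set.mem_ofPred_eq, ↓ _root_.reduceIte, _root_.ne_eq, _root_.Sum.inr.injEq, _root_.Sum.inl.injEq, _root_.not_false_eq_true, _root_.Pi.single_eq_of_ne]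
    have e3 : (toFrame (wodd m F)).b (k, b) (Sum.inr (Sum.inr j)) = 0 := by
      cases b
      · simp only [toFrame, wodd, hkj, _root_.Sum.forall, _root_.Submodule.mem_mk, _root_.AddSubmonoid.mem_mk, _root_.AddSubsemigroup.mem_mk, _root_.Set.mem_ofPred_eq, _root_.Bool.false_eq_true, ↓ _root_.reduceIte, _root_.ne_eq, _root_.Sum.inr.injEq, _root_.not_false_eq_true, _root_.Pi.single_eq_of_ne]
      · simp only [toFrame, wodd, _root_.Sum.forall, _root_.Submodule.mem_mk, _root_.AddSubmonoid.mem_mk, _root_.AddSubsemigroup.mem_mk, _root_.Set.mem_ofPred_eq, ↓ _root_.reduceIte, _root_.ne_eq, _root_.Sum.inr.injEq, _root_.reduceCtorEq, _root_.not_false_eq_true, _root_.Pi.single_eq_of_ne]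
    rcases t with t | (l | l)
    · cases t
      rw [adL_z, e1, e2, e3]; simp
    · by_cases hl : l = j
      · subst hl
        rw [adL_x, e1, e2, e3]; simp
      · rw [adL_x' j _ _ hl]
    · by_cases hl : l = j
      · subst hl
        rw [adL_y, e1, e2, e3]; simp
      · rw [adL_y' j _ _ hl]
  pow v _ := by rw [← map_pow, hC, map_one]; rfl

theorem mem_O_of_iso (h2 : (2 : F) ≠ 0) {g : Vo m F ≃ₗ[F] Vo m F} (hg : (HO (oddForm m F)).IsIso g) :
    g ∈ O (oddForm m F) := by
  intro v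
  have h1 := hg v v
  rw [HO_h, HO_h, polar_self', polar_self'] at h1
  exact mul_left_cancel₀ h2 h1

theorem odd_card (F : Type*) [Field F] [Finite F] (h2 : (2 : F) ≠ 0) : Odd (Nat.card F) := by
  have : Fintype F := Fintype.ofFinite F
  rw [Nat.card_eq_fintype_card, Nat.odd_iff]
  refine FiniteField.odd_card_of_char_ne_two fun h => h2 ?_
  have := ringChar.Nat.cast_ringChar (R := F)
  rw [h] at this
  exact_mod_cast this

theorem three_le (F : Type*) [Field F] [Finite F] (h2 : (2 : F) ≠ 0) : 3 ≤ Nat.card F := by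
  have h1 := odd_card F h2
  have h3 : 1 < Nat.card F := Finite.one_lt_card
  obtain ⟨k, hk⟩ := h1
  omega

theorem good_odd [Finite F] (h2 : (2 : F) ≠ 0) (hm : 2 ≤ m) : LieClassical.OrthTrans.Good (oddForm m F) := by
  apply OrthFinite.good_of_finite (nondeg_oddForm m F h2)
  rw [Module.finrank_fintype_fun_eq_card, Fintype.card_sum, Fintype.card_sum, Fintype.card_fin,
    Fintype.card_unit]
  omega

theorem adm_odd (m : ℕ) (F : Type*) [Field F] : ∃ p : (toFrame (wodd m F)).Adm, p.c ≠ 0 := by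
  refine ⟨(embOdd m F).ngt ⟨1, -1 ^ 2, rfl⟩, ?_⟩
  change (1 : F)⁻¹ * (-1 ^ 2) ≠ 0
  simp

variable [Finite F] {W : Type*} [Group W] (cs : CoxeterSystem (CoxeterMatrix.B m) W) (h2 : (2 : F) ≠ 0)
  (hG : LieClassical.OrthTrans.Good (oddForm m F)) (hp : ∃ p : (toFrame (wodd m F)).Adm, p.c ≠ 0)

include h2

end Odd

end Cfsg.Agent.H410.OZ
end

-- part: H410/OZ/OmF
section
/-!
# S4842: elliptic elements of `POmega_7(q)`, `q ≥ 5` odd, `J = {1}ᶜ` (helper410)

`γ` a generator of the multiplicative group of the field with `q²` elements, `A` its matrix: the element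
`t = gl γ * adE 2 A` is an element of `E Q` (`gl_mul_adE_mem`), `t` and `t²` are elliptic and not conjugate.
-/

set_option autoImplicit false
set_option linter.unusedSectionVars false

namespace Cfsg.Agent.H410.OZ

open CoxeterSystem Cfsg.Agent.ChevalleyStructure.CoxeterGeom Cfsg.Agent.Tits.Roots Cfsg.Agent.Nodes.TypeC
open Cfsg.Agent.Nodes Cfsg.Agent.Nodes.Comb Cfsg.Agent.Nodes.Reps Cfsg.Agent.Nodes.WittRoot Cfsg.Agent.Nodes.BNOf
open Cfsg.Agent.Nodes.WittRGD Cfsg.Agent.Nodes.RGDLib Cfsg.Agent.Nodes.WittAll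
open Cfsg.Agent.TitsThree Cfsg.Agent.TitsThree.Siegel Cfsg.Agent.TitsThree.WittFrame
  Cfsg.Agent.TitsThree.WittWeyl Cfsg.Agent.TitsThree.FrameCN
open Cfsg.Agent.Nodes.StabComb Cfsg.Agent.Nodes.Bruhat Cfsg.Agent.Nodes.LeviDec
open Cfsg.Agent.H62.PCFrame Cfsg.Agent.H62.PCWitt Cfsg.Agent.H985.VZ Module
open QuadraticMap Cfsg.Agent.LieClassical Cfsg.Agent.LieClassical.OrthCore Cfsg.Agent.LieClassical.OrthForms
open Cfsg.Agent.TitsThree.KSideO Cfsg.Agent.TitsThree.WBridge Cfsg.Agent.Nodes.WittU Cfsg.Agent.Nodes.WittInst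
open Cfsg.Agent.H62.FrameSL Cfsg.Agent.ChevalleyStructure.SL2Hom
open scoped MatrixGroups

section Frame

variable {F : Type*} [Field F] {V : Type*} [AddCommGroup V] [Module F V] {H : HForm F V} {n : ℕ}
  {Fr : Frame H (Fin n)} {i : Fin n}

/-- isometries which agree on `E` and the middle and preserve the opposite subspace are equal -/
theorem eq_of_E {g g' : V ≃ₗ[F] V} (hg : H.IsIso g) (hg' : H.IsIso g') (hE : ∀ x ∈ RS Fr (Si i), g x = g' x)
    (hE' : ∀ x ∈ RS Fr (Si i), ∃ y ∈ RS Fr (Si i), g y = x) (hF : ∀ x ∈ RS Fr (Ni i), g x ∈ RS Fr (Ni i))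
    (hF' : ∀ x ∈ RS Fr (Ni i), g' x ∈ RS Fr (Ni i)) (hM : ∀ w ∈ Mid Fr i, g w = g' w) : g = g' := by
  have h1 : ∀ x ∈ RS Fr (Ni i), g x = g' x := by
    intro x hx
    refine sub_eq_zero.1 (eq_zero_of_F_Pp (Submodule.sub_mem _ (hF x hx) (hF' x hx)) fun k hk => ?_)
    obtain ⟨y, hy, e⟩ := hE' (Fr.b (k, true)) (b_mem ⟨hk, rfl⟩)
    rw [← e, H.sub_left]
    conv_lhs => rw [hg x y]
    conv_lhs =>
      arg 2
      rw [hE y hy, hg' x y]
    exact sub_self _
  ext v
  obtain ⟨x, hx, y, hy, w, hw, rfl⟩ := exists_decomp (Fr := Fr) i v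
  change g (x + y + w) = g' (x + y + w)
  simp only [map_add, hE x hx, h1 y hy, hM w hw]

variable {L : Type*} [Field L] [Algebra F L] {β : Basis {k : Fin n // k ≤ i} F L} {s : ℕ} {D : V ≃ₗ[F] V}

theorem gl_comm (hD : Comp Fr i s D) (z : Lˣ) : gl Fr β z * D = D * gl Fr β z := by
  ext v
  obtain ⟨x, hx, y, hy, w, hw, rfl⟩ := exists_decomp (Fr := Fr) i v
  obtain ⟨x, rfl⟩ := exists_eE β hx
  obtain ⟨l, rfl⟩ := exists_fF β hy
  change gl Fr β z (D (eE Fr β x + fF Fr β l + w)) = D (gl Fr β z (eE Fr β x + fF Fr β l + w))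
  simp only [map_add, hD.eE, hD.fF, gl_eE, gl_fF, gl_Mid _ hw, gl_Mid _ (hD.mid hw)]

end Frame

section Tor

variable {F : Type*} [Field F] {m : ℕ}

/-- `diag (d, 1)` -/
noncomputable def dgl (d : Fˣ) : GL (Fin 2) F :=
  Matrix.GeneralLinearGroup.mkOfDetNeZero !![(d : F), 0; 0, 1] (by rw [Matrix.det_fin_two_of]; simp)

theorem adE_SL (j : Fin m) (h2 : (2 : F) ≠ 0) (hG : LieClassical.OrthTrans.Good (oddForm m F)) (S : SL(2, F)) :
    adE j (Matrix.SpecialLinearGroup.toGL S) ∈ E (oddForm m F) := by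
  have h1 : Subgroup.closure (Set.range (up (F := F)) ∪ Set.range (lo (F := F))) ≤
      (E (oddForm m F)).comap ((adE j).comp Matrix.SpecialLinearGroup.toGL) := by
    rw [Subgroup.closure_le]
    rintro _ (⟨a, rfl⟩ | ⟨a, rfl⟩)
    · have e : up a = up (a / 2) * up (a / 2) := by
        apply Subtype.ext
        change !![1, a; 0, 1] = !![1, a / 2; 0, 1] * !![1, a / 2; 0, 1]
        rw [Matrix.mul_fin_two]
        congr 1
        simp only [_root_.mul_one, _root_.MulZeroClass.mul_zero, _root_.add_zero, _root_.one_mul, _root_.MulZeroClass.zero_mul, _root_.zero_add, _root_.Matrix.vecCons_inj, _root_.and_true, _root_.true_and]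
        field_simp
        ring
      change adE j (Matrix.SpecialLinearGroup.toGL (up a)) ∈ E (oddForm m F)
      rw [e, map_mul, map_mul]
      exact sq_mem_EQ hG (adE_mem_O j _)
    · have e : lo a = lo (a / 2) * lo (a / 2) := by
        apply Subtype.ext
        change !![1, 0; a, 1] = !![1, 0; a / 2, 1] * !![1, 0; a / 2, 1]
        rw [Matrix.mul_fin_two]
        congr 1
        simp only [_root_.mul_one, _root_.MulZeroClass.zero_mul, _root_.add_zero, _root_.MulZeroClass.mul_zero, _root_.one_mul, _root_.zero_add, _root_.Matrix.vecCons_inj, _root_.and_true, _root_.true_and]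
        field_simp
        ring
      change adE j (Matrix.SpecialLinearGroup.toGL (lo a)) ∈ E (oddForm m F)
      rw [e, map_mul, map_mul]
      exact sq_mem_EQ hG (adE_mem_O j _)
  exact h1 (mem_closure_SL2 S)

theorem phiS_E {i j : Fin m} (hij : i ≠ j) (S : SL(2, F)) :
    phiS (toFrame (wodd m F)) hij S ∈ E (oddForm m F) := by
  have h1 : (phiS (toFrame (wodd m F)) hij).range ≤ E (oddForm m F) := by
    rw [phiS_range]
    refine sup_le ?_ ?_
    · rintro _ ⟨t, rfl⟩
      exact X_mem _ _ _ _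
    · rintro _ ⟨t, rfl⟩
      exact X_mem _ _ _ _
  exact h1 ⟨S, rfl⟩

theorem dgl_val (d : Fˣ) : (dgl d).1 = !![(d : F), 0; 0, 1] := rfl

theorem tt_z (k : Fin m) (d : Fˣ) (v : Vo m F) : adE k (dgl d) v (Sum.inl ()) = v (Sum.inl ()) := by
  rw [adE_apply, adL_z, dgl_val]
  have := d.ne_zero
  simp

theorem tt_x (k : Fin m) (d : Fˣ) (v : Vo m F) : adE k (dgl d) v (Sum.inr (Sum.inl k)) = d * v (Sum.inr (Sum.inl k)) := by
  rw [adE_apply, adL_x, dgl_val]
  have := d.ne_zero
  simp only [_root_.Fin.isValue, _root_.Matrix.of_apply, _root_.Matrix.cons_val', _root_.Matrix.cons_val_zero, _root_.Matrix.cons_val_fin_one, _root_.Matrix.cons_val_one, _root_.MulZeroClass.mul_zero, _root_.MulZeroClass.zero_mul, _root_.sub_zero, _root_.ne_eq, _root_.OfNat.ofNat_ne_zero, _root_.not_false_eq_true, _root_.zero_pow, _root_.mul_one]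
  field_simp

theorem tt_y (k : Fin m) (d : Fˣ) (v : Vo m F) :
    adE k (dgl d) v (Sum.inr (Sum.inr k)) = (d : F)⁻¹ * v (Sum.inr (Sum.inr k)) := by
  rw [adE_apply, adL_y, dgl_val]
  have := d.ne_zero
  simp
  field_simp

/-- `diag (d, d⁻¹)` -/
def dSL (d : Fˣ) : SL(2, F) := ⟨!![(d : F), 0; 0, (d : F)⁻¹], by
  rw [Matrix.det_fin_two_of, mul_inv_cancel₀ d.ne_zero]; simp⟩

theorem b_x (k l : Fin m) (s : Bool) : (toFrame (wodd m F)).b (k, s) (Sum.inr (Sum.inl l)) =
    if s = true ∧ l = k then 1 else 0 := by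
  cases s <;> simp only [toFrame, wodd, Pi.single_apply, _root_.Sum.forall, _root_.Submodule.mem_mk, _root_.AddSubmonoid.mem_mk, _root_.AddSubsemigroup.mem_mk, _root_.Set.mem_ofPred_eq, _root_.Bool.false_eq_true, ↓ _root_.reduceIte, _root_.ne_eq, _root_.Sum.inr.injEq, _root_.reduceCtorEq, _root_.not_false_eq_true, _root_.Pi.single_eq_of_ne, _root_.false_and, _root_.Sum.inl.injEq, _root_.true_and]

theorem b_y (k l : Fin m) (s : Bool) : (toFrame (wodd m F)).b (k, s) (Sum.inr (Sum.inr l)) =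
    if s = false ∧ l = k then 1 else 0 := by
  cases s <;> simp only [toFrame, wodd, Pi.single_apply, _root_.Sum.forall, _root_.Submodule.mem_mk, _root_.AddSubmonoid.mem_mk, _root_.AddSubsemigroup.mem_mk, _root_.Set.mem_ofPred_eq, _root_.Bool.false_eq_true, ↓ _root_.reduceIte, _root_.Sum.inr.injEq, _root_.true_and, _root_.ne_eq, _root_.reduceCtorEq, _root_.not_false_eq_true, _root_.Pi.single_eq_of_ne, _root_.Bool.true_eq_false, _root_.false_and]

theorem b_z (k : Fin m) (s : Bool) : (toFrame (wodd m F)).b (k, s) (Sum.inl ()) = 0 := by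
  cases s <;> simp only [toFrame, wodd, _root_.Sum.forall, _root_.Submodule.mem_mk, _root_.AddSubmonoid.mem_mk, _root_.AddSubsemigroup.mem_mk, _root_.Set.mem_ofPred_eq, _root_.Bool.false_eq_true, ↓ _root_.reduceIte, _root_.ne_eq, _root_.reduceCtorEq, _root_.not_false_eq_true, _root_.Pi.single_eq_of_ne]

theorem tt_eq {k j : Fin m} (hkj : k ≠ j) (d : Fˣ) :
    adE k (dgl d) = phiS (toFrame (wodd m F)) hkj (dSL d) * adE j (dgl d) := by
  have hd := d.ne_zero
  refine LinearEquiv.ext fun v => ?_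
  change _ = phiS (toFrame (wodd m F)) hkj (dSL d) (adE j (dgl d) v)
  rw [phiS_apply, linS_apply]
  simp only [h_true, h_false]
  have e1 : ((1 : F))⁻¹ = 1 := inv_one
  have hε : (HO (oddForm m F)).ε = 1 := rfl
  have hσ : ∀ a : F, (HO (oddForm m F)).σ a = a := fun _ => rfl
  have hjk := hkj.symm
  funext t
  rcases t with t | (l | l)
  · cases t
    simp only [Pi.add_apply, Pi.smul_apply, b_z, smul_zero, add_zero, tt_z]
  · simp only [Pi.add_apply, Pi.smul_apply, b_x]
    by_cases hl : l = k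
    · subst hl
      rw [tt_x]
      simp only [adE_apply, adL_x' j _ _ hkj]
      simp only [dSL, hkj, _root_.Fin.isValue, _root_.Matrix.of_apply, _root_.Matrix.cons_val', _root_.Matrix.cons_val_zero, _root_.Matrix.cons_val_fin_one, _root_.Matrix.cons_val_one, _root_.MulZeroClass.zero_mul, _root_.add_zero, _root_.and_self, ↓ _root_.reduceIte, _root_.smul_eq_mul, _root_.mul_one, _root_.zero_add, _root_.and_false, _root_.MulZeroClass.mul_zero, _root_.map_inv₀, _root_.map_zero, _root_.sub_zero, _root_.Bool.false_eq_true, _root_.and_true, _root_.neg_zero]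
      ring
    · by_cases hl' : l = j
      · subst hl'
        rw [tt_x]
        simp only [adE_apply, adL_x' k _ _ hl]
        simp only [dSL, hl, _root_.Fin.isValue, _root_.Matrix.of_apply, _root_.Matrix.cons_val', _root_.Matrix.cons_val_zero, _root_.Matrix.cons_val_fin_one, _root_.Matrix.cons_val_one, _root_.MulZeroClass.zero_mul, _root_.add_zero, _root_.and_false, ↓ _root_.reduceIte, _root_.smul_eq_mul, _root_.MulZeroClass.mul_zero, _root_.zero_add, _root_.and_self, _root_.mul_one, _root_.map_inv₀, _root_.map_zero, _root_.sub_zero, _root_.Bool.false_eq_true, _root_.neg_zero, _root_.and_true]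
        field_simp
        ring
      · simp only [adE_apply, adL_x' k _ _ hl, adL_x' j _ _ hl']
        simp only [hl, hl', _root_.Fin.isValue, _root_.and_false, ↓ _root_.reduceIte, _root_.smul_eq_mul, _root_.MulZeroClass.mul_zero, _root_.add_zero, _root_.Bool.false_eq_true, _root_.and_self, _root_.neg_mul]
  · simp only [Pi.add_apply, Pi.smul_apply, b_y]
    by_cases hl : l = k
    · subst hl
      rw [tt_y]
      simp only [adE_apply, adL_y' j _ _ hkj]
      simp only [dSL, hkj, hε, hσ, _root_.Fin.isValue, _root_.Matrix.of_apply, _root_.Matrix.cons_val', _root_.Matrix.cons_val_zero, _root_.Matrix.cons_val_fin_one, _root_.Matrix.cons_val_one, _root_.MulZeroClass.zero_mul, _root_.add_zero, _root_.Bool.true_eq_false, _root_.and_true, ↓ _root_.reduceIte, _root_.smul_eq_mul, _root_.MulZeroClass.mul_zero, _root_.zero_add, _root_.and_self, _root_.inv_one, _root_.one_mul, _root_.sub_zero, _root_.mul_one, _root_.neg_zero, _root_.and_false]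
      ring
    · by_cases hl' : l = j
      · subst hl'
        rw [tt_y]
        simp only [adE_apply, adL_y' k _ _ hl]
        simp only [dSL, hl, hε, hσ, _root_.Fin.isValue, _root_.Matrix.of_apply, _root_.Matrix.cons_val', _root_.Matrix.cons_val_zero, _root_.Matrix.cons_val_fin_one, _root_.Matrix.cons_val_one, _root_.MulZeroClass.zero_mul, _root_.add_zero, _root_.Bool.true_eq_false, _root_.and_self, ↓ _root_.reduceIte, _root_.smul_eq_mul, _root_.MulZeroClass.mul_zero, _root_.zero_add, _root_.and_true, _root_.inv_one, _root_.one_mul, _root_.sub_zero, _root_.and_false, _root_.neg_zero, _root_.mul_one]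
        field_simp
        ring
      · simp only [adE_apply, adL_y' k _ _ hl, adL_y' j _ _ hl']
        simp only [hl, hl', _root_.Fin.isValue, _root_.Bool.true_eq_false, _root_.and_self, ↓ _root_.reduceIte, _root_.smul_eq_mul, _root_.MulZeroClass.mul_zero, _root_.add_zero, _root_.and_false, _root_.neg_mul]

theorem tt_bt (k : Fin m) (d : Fˣ) :
    adE k (dgl d) ((toFrame (wodd m F)).b (k, true)) = (d : F) • (toFrame (wodd m F)).b (k, true) := by
  funext t
  rcases t with t | (l | l)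
  · cases t
    rw [tt_z, Pi.smul_apply, b_z]; simp
  · by_cases hl : l = k
    · subst hl
      rw [tt_x, Pi.smul_apply, smul_eq_mul]
    · rw [adE_apply, adL_x' _ _ _ hl, Pi.smul_apply, b_x]; simp [hl]
  · by_cases hl : l = k
    · subst hl
      rw [tt_y, Pi.smul_apply, b_y]; simp
    · rw [adE_apply, adL_y' _ _ _ hl, Pi.smul_apply, b_y]; simp

theorem tt_bf (k : Fin m) (d : Fˣ) :
    adE k (dgl d) ((toFrame (wodd m F)).b (k, false)) = (d : F)⁻¹ • (toFrame (wodd m F)).b (k, false) := by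
  funext t
  rcases t with t | (l | l)
  · cases t
    rw [tt_z, Pi.smul_apply, b_z]; simp
  · by_cases hl : l = k
    · subst hl
      rw [tt_x, Pi.smul_apply, b_x]; simp
    · rw [adE_apply, adL_x' _ _ _ hl, Pi.smul_apply, b_x]; simp
  · by_cases hl : l = k
    · subst hl
      rw [tt_y, Pi.smul_apply, smul_eq_mul]
    · rw [adE_apply, adL_y' _ _ _ hl, Pi.smul_apply, b_y]; simp [hl]

theorem tt_fix (k : Fin m) (d : Fˣ) {v : Vo m F} (hx : v (Sum.inr (Sum.inl k)) = 0) (hy : v (Sum.inr (Sum.inr k)) = 0) :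
    adE k (dgl d) v = v := by
  funext t
  rcases t with t | (l | l)
  · cases t
    rw [tt_z]
  · by_cases hl : l = k
    · subst hl
      rw [tt_x, hx, mul_zero]
    · rw [adE_apply, adL_x' _ _ _ hl]
  · by_cases hl : l = k
    · subst hl
      rw [tt_y, hy, mul_zero]
    · rw [adE_apply, adL_y' _ _ _ hl]

/-- the matrix as a product -/
theorem exists_SL (A : GL (Fin 2) F) : ∃ (S : SL(2, F)) (d : Fˣ), A = Matrix.SpecialLinearGroup.toGL S * dgl d ∧
    S.1 0 0 = A.1 0 0 * (d : F)⁻¹ ∧ S.1 1 0 = A.1 1 0 * (d : F)⁻¹ ∧ S.1 0 1 = A.1 0 1 ∧ S.1 1 1 = A.1 1 1 := by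
  set d : Fˣ := Units.mk0 _ (det_ne A) with hd
  have hd0 : (d : F) = A.1 0 0 * A.1 1 1 - A.1 0 1 * A.1 1 0 := rfl
  have hdn := d.ne_zero
  have hdet : (!![A.1 0 0 * (d : F)⁻¹, A.1 0 1; A.1 1 0 * (d : F)⁻¹, A.1 1 1]).det = 1 := by
    rw [Matrix.det_fin_two_of]
    field_simp
    rw [hd0]
  refine ⟨⟨_, hdet⟩, d, ?_, rfl, rfl, rfl, rfl⟩
  apply Units.ext
  rw [Units.val_mul, dgl_val]
  change _ = !![A.1 0 0 * (d : F)⁻¹, A.1 0 1; A.1 1 0 * (d : F)⁻¹, A.1 1 1] * !![(d : F), 0; 0, 1]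
  rw [Matrix.mul_fin_two]
  ext a b
  (revert a b; simp only [_root_.Fin.forall_fin_succ, Fin.isValue, _root_.ne_eq, _root_.Units.ne_zero, _root_.not_false_eq_true, _root_.inv_mul_cancel_right₀, _root_.MulZeroClass.mul_zero, _root_.add_zero, _root_.mul_one, _root_.zero_add, _root_.Matrix.of_apply, _root_.Matrix.cons_val', _root_.Matrix.cons_val_fin_one, _root_.Matrix.cons_val_zero, _root_.Matrix.cons_val_succ, _root_.Fin.succ_zero_eq_one, _root_.IsEmpty.forall_iff, _root_.and_true, _root_.and_self])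

/-- the product of the elements of the two factors -/
theorem prod_mem {k l j : Fin m} (hkl : k ≠ l) (hkj : k ≠ j) (h2 : (2 : F) ≠ 0)
    (hG : LieClassical.OrthTrans.Good (oddForm m F)) {S : SL(2, F)} {d : Fˣ} (S' : SL(2, F)) :
    phiS (toFrame (wodd m F)) hkl S' * adE k (dgl d) *
      adE j (Matrix.SpecialLinearGroup.toGL S * dgl d) ∈ E (oddForm m F) := by
  rw [map_mul]
  have e : phiS (toFrame (wodd m F)) hkl S' * adE k (dgl d) * (adE j (Matrix.SpecialLinearGroup.toGL S) * adE j (dgl d)) =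
      phiS (toFrame (wodd m F)) hkl S' * (adE k (dgl d) * adE j (Matrix.SpecialLinearGroup.toGL S) * (adE k (dgl d))⁻¹) *
        (adE k (dgl d) * (adE j (dgl d))⁻¹) * (adE j (dgl d) * adE j (dgl d)) := by group
  rw [e]
  refine mul_mem (mul_mem (mul_mem (phiS_E hkl S') ?_) ?_) ?_
  · exact conj_mem_E (adE_mem_O k _) (adE_SL j h2 hG S)
  · rw [tt_eq hkj, mul_inv_cancel_right]
    exact phiS_E hkj _
  · exact sq_mem_EQ hG (adE_mem_O j _)

end Tor

section Main

variable {F : Type*} [Field F]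

/-- the basis of the plane -/
def e2 : Fin 2 ≃ {k : Fin 3 // k ≤ 1} where
  toFun x := ⟨x.castSucc, by revert x; decide⟩
  invFun k := ⟨k.1.1, by have h1 := k.2; rw [Fin.le_def] at h1; change k.1.1 ≤ 1 at h1; omega⟩
  left_inv x := by revert x; decide
  right_inv k := by revert k; decide

theorem gl_eq {L : Type*} [Field L] [Algebra F L] (b2 : Basis (Fin 2) F L) (z : Lˣ) (A : GL (Fin 2) F)
    (hA : A.1 = Algebra.leftMulMatrix b2 (z : L)) {S : SL(2, F)} {d : Fˣ}
    (h00 : S.1 0 0 = A.1 0 0 * (d : F)⁻¹) (h10 : S.1 1 0 = A.1 1 0 * (d : F)⁻¹) (h01 : S.1 0 1 = A.1 0 1)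
    (h11 : S.1 1 1 = A.1 1 1) (hne : (0 : Fin 3) ≠ 1) :
    gl (toFrame (wodd 3 F)) (b2.reindex e2) z = phiS (toFrame (wodd 3 F)) hne S * adE 0 (dgl d) := by
  have hd := d.ne_zero
  have hb : ∀ k : Fin 2, (z : L) * b2 k = A.1 0 k • b2 0 + A.1 1 k • b2 1 := by
    intro k
    rw [← b2.sum_repr ((z : L) * b2 k), Fin.sum_univ_two, hA, Algebra.leftMulMatrix_eq_repr_mul,
      Algebra.leftMulMatrix_eq_repr_mul]
  have hβ : ∀ k : Fin 2, (b2.reindex e2) (e2 k) = b2 k := fun k => by rw [Basis.reindex_apply, Equiv.symm_apply_apply]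
  have hE2 : ∀ k : Fin 2, gl (toFrame (wodd 3 F)) (b2.reindex e2) z ((toFrame (wodd 3 F)).b ((e2 k).1, true)) =
      A.1 0 k • (toFrame (wodd 3 F)).b (0, true) + A.1 1 k • (toFrame (wodd 3 F)).b (1, true) := by
    intro k
    rw [← eE_basis (β := b2.reindex e2), gl_eE, hβ, hb, map_add, map_smul, map_smul, ← hβ 0, ← hβ 1, eE_basis, eE_basis]
    rfl
  refine eq_of_E (Fr := toFrame (wodd 3 F)) (i := (1 : Fin 3)) (isIso_gl (fun _ => rfl) z) ?_ ?_ ?_ ?_ ?_ ?_
  · intro v w
    exact polar_map (mul_mem (E_le_O (phiS_E hne S)) (adE_mem_O 0 _)) v w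
  · intro x hx
    refine Submodule.span_induction (p := fun x _ => gl (toFrame (wodd 3 F)) (b2.reindex e2) z x =
      (phiS (toFrame (wodd 3 F)) hne S * adE 0 (dgl d) : Vo 3 F ≃ₗ[F] Vo 3 F) x) ?_ ?_ ?_ ?_ hx
    · rintro _ ⟨⟨k, s⟩, ⟨hk, hs⟩, rfl⟩
      change k ≤ 1 at hk
      change s = true at hs
      subst hs
      have hk' : k = 0 ∨ k = 1 := by revert k; decide
      rcases hk' with rfl | rfl
      · refine (hE2 0).trans ?_
        change _ = phiS (toFrame (wodd 3 F)) hne S (adE 0 (dgl d) ((toFrame (wodd 3 F)).b (0, true)))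
        rw [tt_bt, map_smul, phiS_e, smul_add, smul_smul, smul_smul, h00, h10]
        congr 2 <;> field_simp
      · refine (hE2 1).trans ?_
        change _ = phiS (toFrame (wodd 3 F)) hne S (adE 0 (dgl d) ((toFrame (wodd 3 F)).b (1, true)))
        rw [tt_fix 0 d (by rw [b_x]; simp) (by rw [b_y]; simp), phiS_e', h01, h11]
    · rw [map_zero, map_zero]
    · intro x y _ _ hx hy
      rw [map_add, map_add, hx, hy]
    · intro c x _ hx
      rw [map_smul, map_smul, hx]
  · intro x hx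
    obtain ⟨x, rfl⟩ := exists_eE (b2.reindex e2) hx
    exact ⟨eE (toFrame (wodd 3 F)) (b2.reindex e2) ((z⁻¹ : Lˣ) * x), eE_mem _, by
      rw [gl_eE, ← mul_assoc, ← Units.val_mul, mul_inv_cancel, Units.val_one, one_mul]⟩
  · intro x hx
    obtain ⟨l, rfl⟩ := exists_fF (b2.reindex e2) hx
    rw [gl_fF]
    exact fF_mem _
  · have h3 : ∀ x ∈ RS (toFrame (wodd 3 F)) (Ni 1), phiS (toFrame (wodd 3 F)) hne S x ∈
        RS (toFrame (wodd 3 F)) (Ni 1) := by
      intro x hx
      have h4 : ∀ l : Fin 3, (HO (oddForm 3 F)).h x ((toFrame (wodd 3 F)).b (l, false)) = 0 := fun l =>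
        h_left_zero (fun a ha => (toFrame (wodd 3 F)).hb_ne fun e => by
          have h5 := ha.2
          have h6 : a.2 = false := h5
          have h7 := congrArg Prod.snd e
          rw [neg_snd, h6] at h7
          simp at h7) x hx
      rw [phiS_apply, linS_apply, h4, h4]
      simp only [mul_zero, add_zero, zero_smul]
      exact Submodule.add_mem _ (Submodule.add_mem _ hx (Submodule.smul_mem _ _ (b_mem ⟨by decide, rfl⟩)))
        (Submodule.smul_mem _ _ (b_mem ⟨by decide, rfl⟩))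
    intro x hx
    refine h3 _ ?_
    refine Submodule.span_induction (p := fun x _ => adE 0 (dgl d) x ∈ RS (toFrame (wodd 3 F)) (Ni 1)) ?_ ?_ ?_ ?_ hx
    · rintro _ ⟨⟨k, s⟩, ⟨hk, hs⟩, rfl⟩
      change k ≤ 1 at hk
      change s = false at hs
      subst hs
      by_cases hk0 : k = 0
      · subst hk0
        rw [tt_bf]
        exact Submodule.smul_mem _ _ (b_mem ⟨hk, rfl⟩)
      · rw [tt_fix 0 d (by rw [b_x]; simp) (by rw [b_y]; simp [Ne.symm hk0])]
        exact b_mem ⟨hk, rfl⟩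
    · rw [map_zero]; exact Submodule.zero_mem _
    · intro x y _ _ hx hy
      rw [map_add]; exact Submodule.add_mem _ hx hy
    · intro c x _ hx
      rw [map_smul]; exact Submodule.smul_mem _ _ hx
  · intro w hw
    have h0 := mem_Mid_odd.1 hw 0 (by decide)
    have h1 := mem_Mid_odd.1 hw 1 (by decide)
    rw [gl_Mid _ hw]
    change w = phiS (toFrame (wodd 3 F)) hne S (adE 0 (dgl d) w)
    rw [tt_fix 0 d h0.1 h0.2, phiS_apply, linS_apply]
    simp only [h_true, h_false, h0.1, h0.2, h1.1, h1.2]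
    simp

theorem Comp.sq {V : Type*} [AddCommGroup V] [Module F V] {H : HForm F V} {n : ℕ} {Fr : Frame H (Fin n)} {i : Fin n}
    {s : ℕ} {D : V ≃ₗ[F] V} (hD : Comp Fr i s D) : Comp Fr i s (D * D) where
  iso := HForm.IsIso.mul H hD.iso hD.iso
  fix k hk b := by
    change D (D _) = _
    rw [hD.fix k hk b, hD.fix k hk b]
  pow v hv := by
    rw [(Commute.refl D).mul_pow]
    change (D ^ s) ((D ^ s) v) = v
    rw [hD.pow v hv, hD.pow v hv]

theorem adL_scalar {m : ℕ} (j : Fin m) {c : F} (hc : c ≠ 0) (v : Vo m F) :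
    adL j (algebraMap F (Matrix (Fin 2) (Fin 2) F) c) v = v := by
  have e00 : algebraMap F (Matrix (Fin 2) (Fin 2) F) c 0 0 = c := by simp [Matrix.algebraMap_matrix_apply]
  have e01 : algebraMap F (Matrix (Fin 2) (Fin 2) F) c 0 1 = 0 := by simp [Matrix.algebraMap_matrix_apply]
  have e10 : algebraMap F (Matrix (Fin 2) (Fin 2) F) c 1 0 = 0 := by simp [Matrix.algebraMap_matrix_apply]
  have e11 : algebraMap F (Matrix (Fin 2) (Fin 2) F) c 1 1 = c := by simp [Matrix.algebraMap_matrix_apply]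
  funext t
  rcases t with t | (k | k)
  · cases t
    rw [adL_z, e00, e01, e10, e11]; field_simp; ring
  · by_cases hk : k = j
    · subst hk
      rw [adL_x, e00, e01, e10, e11]; field_simp; ring
    · rw [adL_x' j _ _ hk]
  · by_cases hk : k = j
    · subst hk
      rw [adL_y, e00, e01, e10, e11]; field_simp; ring
    · rw [adL_y' j _ _ hk]

theorem det_mul_ne {L : Type*} [Field L] [Algebra F L] (b : Basis (Fin 2) F L) {x : L} (hx : x ≠ 0) :
    (Algebra.leftMulMatrix b x).det ≠ 0 := by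
  intro h0
  have h1 : Algebra.leftMulMatrix b x * Algebra.leftMulMatrix b x⁻¹ = 1 := by
    rw [← map_mul, mul_inv_cancel₀ hx, map_one]
  have h2 := congrArg Matrix.det h1
  rw [Matrix.det_mul, h0, zero_mul, Matrix.det_one] at h2
  exact zero_ne_one h2

theorem anis_mul {L : Type*} [Field L] [Algebra F L] (b : Basis (Fin 2) F L) {w : L}
    (hw : ∀ l : F, w ≠ algebraMap F L l) : Anis (Algebra.leftMulMatrix b w) := by
  apply anis_of
  intro l hl
  apply det_mul_ne b (sub_ne_zero.2 (hw l))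
  rw [map_sub, AlgHom.commutes, Matrix.det_fin_two]
  simp only [Matrix.sub_apply, Matrix.algebraMap_matrix_apply]
  simp only [Algebra.algebraMap_self, RingHom.id_apply, if_true]
  have e1 : (if (0 : Fin 2) = 1 then l else 0) = 0 := if_neg (by decide)
  have e2 : (if (1 : Fin 2) = 0 then l else 0) = 0 := if_neg (by decide)
  rw [e1, e2, sub_zero, sub_zero]
  exact hl

variable [Finite F] {W : Type*} [Group W] (cs : CoxeterSystem (CoxeterMatrix.B 3) W) (h2 : (2 : F) ≠ 0)
  (hG : LieClassical.OrthTrans.Good (oddForm 3 F)) (hp : ∃ p : (toFrame (wodd 3 F)).Adm, p.c ≠ 0)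

include h2

end Main

end Cfsg.Agent.H410.OZ
end

-- part: H279/VZ/Ge
section
/-!
# S4842: `GL(E)` in classical groups (helper279)

* `GE A` : the isometry which acts on `E ≅ L` as `A`, on the opposite subspace (the dual of `L`) as the inverse of its
  transpose and trivially on `Mid Fr i`; `gl β z = GE (mu z)`;
* `mem_commutator_of_det` : a linear map of determinant one is a product of commutators, `|F| ≥ 3`.
-/

set_option autoImplicit false
set_option linter.unusedSectionVars false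

namespace Cfsg.Agent.H279.VZ

open CoxeterSystem Cfsg.Agent.ChevalleyStructure.CoxeterGeom Cfsg.Agent.Tits.Roots Cfsg.Agent.Nodes.TypeC
open Cfsg.Agent.Nodes Cfsg.Agent.Nodes.Comb Cfsg.Agent.Nodes.Reps Cfsg.Agent.Nodes.WittRoot Cfsg.Agent.Nodes.BNOf
open Cfsg.Agent.Nodes.WittRGD Cfsg.Agent.Nodes.RGDLib Cfsg.Agent.Nodes.WittAll
open Cfsg.Agent.TitsThree Cfsg.Agent.TitsThree.Siegel Cfsg.Agent.TitsThree.WittFrame
  Cfsg.Agent.TitsThree.WittWeyl Cfsg.Agent.TitsThree.FrameCN
open Cfsg.Agent.Nodes.StabComb Cfsg.Agent.Nodes.Bruhat Cfsg.Agent.Nodes.LeviDec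
open Cfsg.Agent.H62.PCFrame Cfsg.Agent.H62.PCWitt Cfsg.Agent.H985.VZ Module
open Cfsg.Agent.H410.OZ
open scoped commutatorElement

section comm

variable {F : Type*} [Field F] {ι : Type*} [Fintype ι] [DecidableEq ι]

/-- scaling of a coordinate -/
noncomputable def scE (i : ι) (a : Fˣ) : (ι → F) ≃ₗ[F] (ι → F) where
  toFun v := Function.update v i (a * v i)
  map_add' v w := by
    funext k
    by_cases h : k = i
    · subst h; simp only [mul_add, _root_.Pi.add_apply, _root_.Function.update_self]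
    · simp [h]
  map_smul' c v := by
    funext k
    by_cases h : k = i
    · subst h; simp [mul_left_comm]
    · simp [h]
  invFun v := Function.update v i ((a⁻¹ : Fˣ) * v i)
  left_inv v := by
    funext k
    by_cases h : k = i
    · subst h; simp
    · simp [h]
  right_inv v := by
    funext k
    by_cases h : k = i
    · subst h; simp
    · simp [h]

theorem scE_apply (i : ι) (a : Fˣ) (v : ι → F) : scE i a v = Function.update v i (a * v i) := rfl

theorem comm_transvection {i j : ι} (hij : i ≠ j) (a : Fˣ) (c : F) :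
    scE i a * (Matrix.SpecialLinearGroup.toLin' (Matrix.SpecialLinearGroup.transvection hij c)) =
      (Matrix.SpecialLinearGroup.toLin' (Matrix.SpecialLinearGroup.transvection hij (a * c))) * scE i a := by
  refine LinearEquiv.ext fun v => ?_
  show scE i a (Matrix.SpecialLinearGroup.toLin' _ v) = Matrix.SpecialLinearGroup.toLin' _ (scE i a v)
  rw [Matrix.SpecialLinearGroup.toLin'_apply, Matrix.SpecialLinearGroup.toLin'_apply]
  have h1 : ∀ (c : F) (v : ι → F), (Matrix.SpecialLinearGroup.transvection hij c : Matrix.SpecialLinearGroup ι F).1.mulVec v =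
      Function.update v i (v i + c * v j) := by
    intro c v
    rw [Matrix.SpecialLinearGroup.transvection_coe]
    funext k
    by_cases h : k = i
    · subst h
      simp [Matrix.transvection, Matrix.add_mulVec, Matrix.single_mulVec, Function.update_self]
    · simp [Matrix.transvection, Matrix.add_mulVec, h, Matrix.single_mulVec]
  rw [Matrix.toLin'_apply, Matrix.toLin'_apply, h1, h1, scE_apply, scE_apply]
  funext k
  by_cases h : k = i
  · subst h
    simp only [hij.symm, _root_.Function.update_self, _root_.ne_eq, _root_.not_false_eq_true, _root_.Function.update_of_ne]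
    ring
  · simp only [h, _root_.Function.update_self, _root_.ne_eq, _root_.not_false_eq_true, _root_.Function.update_of_ne]

theorem toLin_mem_commutator [Nontrivial ι] (hF : ∃ a : F, a ≠ 0 ∧ a ≠ 1) (s : Matrix.SpecialLinearGroup ι F) :
    Matrix.SpecialLinearGroup.toLin' s ∈ commutator ((ι → F) ≃ₗ[F] (ι → F)) := by
  obtain ⟨a, ha0, ha1⟩ := hF
  refine Cfsg.Agent.LieClassical.SLGen.transvection_induction
    (fun s => Matrix.SpecialLinearGroup.toLin' s ∈ commutator ((ι → F) ≃ₗ[F] (ι → F))) ?_ ?_ s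
  · intro i j hij c
    have h1 := comm_transvection hij (Units.mk0 a ha0) (c / (a - 1))
    have h2 : ⁅scE i (Units.mk0 a ha0), Matrix.SpecialLinearGroup.toLin'
        (Matrix.SpecialLinearGroup.transvection hij (c / (a - 1)))⁆ =
        Matrix.SpecialLinearGroup.toLin' (Matrix.SpecialLinearGroup.transvection hij c) := by
      rw [commutatorElement_def, h1, mul_inv_cancel_right, ← map_inv, ← map_mul,
        Matrix.SpecialLinearGroup.transvection_inv]
      congr 1
      apply Subtype.ext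
      rw [Matrix.SpecialLinearGroup.coe_mul, Matrix.SpecialLinearGroup.transvection_coe,
        Matrix.SpecialLinearGroup.transvection_coe, Matrix.SpecialLinearGroup.transvection_coe]
      show Matrix.transvection i j _ * Matrix.transvection i j _ = Matrix.transvection i j _
      rw [Matrix.transvection_mul_transvection_same i j hij]
      congr 1
      have h3 : a - 1 ≠ 0 := sub_ne_zero.2 ha1
      rw [Units.val_mk0]
      field_simp
      ring
    rw [← h2]
    exact Subgroup.commutator_mem_commutator (Subgroup.mem_top _) (Subgroup.mem_top _)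
  · intro A B hA hB
    rw [map_mul]
    exact mul_mem hA hB

theorem mem_commutator_of_det {L : Type*} [AddCommGroup L] [Module F L] (β : Basis ι F L) [Nontrivial ι]
    (hF : ∃ a : F, a ≠ 0 ∧ a ≠ 1) {A : L ≃ₗ[F] L} (hA : LinearMap.det (A : L →ₗ[F] L) = 1) :
    A ∈ commutator (L ≃ₗ[F] L) := by
  let s : Matrix.SpecialLinearGroup ι F := ⟨LinearMap.toMatrix β β (A : L →ₗ[F] L), by
    rw [LinearMap.det_toMatrix]; exact hA⟩
  have h1 := toLin_mem_commutator hF s
  let e : ((ι → F) ≃ₗ[F] (ι → F)) ≃* (L ≃ₗ[F] L) :=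
    { toFun := fun g => β.equivFun.trans (g.trans β.equivFun.symm)
      invFun := fun g => β.equivFun.symm.trans (g.trans β.equivFun)
      left_inv := fun g => by
        ext1 v
        show β.equivFun (β.equivFun.symm (g (β.equivFun (β.equivFun.symm v)))) = g v
        rw [LinearEquiv.apply_symm_apply, LinearEquiv.apply_symm_apply]
      right_inv := fun g => by
        ext1 v
        show β.equivFun.symm (β.equivFun (g (β.equivFun.symm (β.equivFun v)))) = g v
        rw [LinearEquiv.symm_apply_apply, LinearEquiv.symm_apply_apply]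
      map_mul' := fun g h => by
        ext1 v
        show β.equivFun.symm (g (h (β.equivFun v))) =
          β.equivFun.symm (g (β.equivFun (β.equivFun.symm (h (β.equivFun v)))))
        rw [LinearEquiv.apply_symm_apply] }
  have h2 : e (Matrix.SpecialLinearGroup.toLin' s) ∈ (commutator ((ι → F) ≃ₗ[F] (ι → F))).map e.toMonoidHom :=
    ⟨_, h1, rfl⟩
  rw [commutator_def, Subgroup.map_commutator, Subgroup.map_top_of_surjective _ e.surjective] at h2
  have h3 : e (Matrix.SpecialLinearGroup.toLin' s) = A := by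
    ext1 v
    show β.equivFun.symm (Matrix.SpecialLinearGroup.toLin' s (β.equivFun v)) = A v
    rw [Matrix.SpecialLinearGroup.toLin'_apply, Matrix.toLin'_apply]
    show β.equivFun.symm ((LinearMap.toMatrix β β (A : L →ₗ[F] L)).mulVec (β.repr v)) = A v
    rw [LinearMap.toMatrix_mulVec_repr]
    exact β.equivFun.symm_apply_apply (A v)
  rwa [h3] at h2

end comm

section Frame

variable {F : Type*} [Field F] {V : Type*} [AddCommGroup V] [Module F V] {H : HForm F V} {n : ℕ}
  (Fr : Frame H (Fin n)) {i : Fin n} {L : Type*} [Field L] [Algebra F L] (β : Basis {k : Fin n // k ≤ i} F L)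

/-- the inverse transpose -/
noncomputable def du (A : L ≃ₗ[F] L) (l : Dual F L) : Dual F L := l ∘ₗ (A.symm : L →ₗ[F] L)

theorem du_apply (A : L ≃ₗ[F] L) (l : Dual F L) (x : L) : du A l x = l (A.symm x) := rfl

/-- the element as a linear map -/
noncomputable def geM (A : L ≃ₗ[F] L) : V →ₗ[F] V where
  toFun v := v + eE Fr β (A (xc Fr β v) - xc Fr β v) + fF Fr β (du A (lc Fr β v) - lc Fr β v)
  map_add' v w := by
    have e : du A (lc Fr β (v + w)) = du A (lc Fr β v) + du A (lc Fr β w) := by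
      rw [map_add]; rfl
    have e1 : A (xc Fr β (v + w)) - xc Fr β (v + w) =
        (A (xc Fr β v) - xc Fr β v) + (A (xc Fr β w) - xc Fr β w) := by
      rw [map_add (xc Fr β), map_add A]; abel
    rw [e, e1, map_add (lc Fr β)]
    have e2 : ∀ a b c d : Dual F L, a + b - (c + d) = (a - c) + (b - d) := fun a b c d => by abel
    rw [e2, map_add, map_add]
    abel
  map_smul' c v := by
    have e : du A (lc Fr β (c • v)) = c • du A (lc Fr β v) := by
      rw [map_smul]; rfl
    have e1 : A (xc Fr β (c • v)) - xc Fr β (c • v) = c • (A (xc Fr β v) - xc Fr β v) := by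
      rw [map_smul (xc Fr β), map_smul A, smul_sub]
    have e2 : ∀ a b : Dual F L, c • a - c • b = c • (a - b) := fun a b => by
      ext y
      simp only [mul_sub, _root_.LinearMap.sub_apply, _root_.LinearMap.smul_apply, _root_.smul_eq_mul]
    rw [e, e1, map_smul (lc Fr β), e2, map_smul, map_smul, RingHom.id_apply, smul_add, smul_add]

variable {Fr} {β}

theorem geM_apply (A : L ≃ₗ[F] L) (v : V) : geM Fr β A v =
    v + eE Fr β (A (xc Fr β v) - xc Fr β v) + fF Fr β (du A (lc Fr β v) - lc Fr β v) := rfl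

theorem xc_geM (A : L ≃ₗ[F] L) (v : V) : xc Fr β (geM Fr β A v) = A (xc Fr β v) := by
  rw [geM_apply, map_add, map_add, xc_eE, xc_fF]
  abel

theorem lc_geM (A : L ≃ₗ[F] L) (v : V) : lc Fr β (geM Fr β A v) = du A (lc Fr β v) := by
  rw [geM_apply, map_add, map_add, lc_eE, lc_fF]
  abel

theorem geM_mul (A B : L ≃ₗ[F] L) (v : V) : geM Fr β A (geM Fr β B v) = geM Fr β (A * B) v := by
  have h1 : geM Fr β A (geM Fr β B v) = geM Fr β B v + eE Fr β (A (B (xc Fr β v)) - B (xc Fr β v)) +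
      fF Fr β (du A (du B (lc Fr β v)) - du B (lc Fr β v)) := by
    rw [geM_apply A, xc_geM, lc_geM]
  have h2 : du A (du B (lc Fr β v)) = du (A * B) (lc Fr β v) := rfl
  rw [h1, geM_apply B, geM_apply (A * B), h2]
  have h3 : (A * B) (xc Fr β v) - xc Fr β v = (B (xc Fr β v) - xc Fr β v) + (A (B (xc Fr β v)) - B (xc Fr β v)) := by
    rw [LinearEquiv.mul_apply]; abel
  have h4 : du (A * B) (lc Fr β v) - lc Fr β v = (du B (lc Fr β v) - lc Fr β v) +
      (du (A * B) (lc Fr β v) - du B (lc Fr β v)) := by abel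
  rw [h3, h4, map_add (eE Fr β), map_add (fF Fr β)]
  abel

theorem geM_one (v : V) : geM Fr β 1 v = v := by
  have h : du (1 : L ≃ₗ[F] L) (lc Fr β v) = lc Fr β v := rfl
  rw [geM_apply, h, LinearEquiv.coe_one, id, sub_self, sub_self, map_zero, map_zero, add_zero, add_zero]

variable (Fr) (β)

/-- **`GL(E)`** -/
noncomputable def GE : (L ≃ₗ[F] L) →* (V ≃ₗ[F] V) where
  toFun A := LinearEquiv.ofLinearMap (geM Fr β A) (geM Fr β A⁻¹)
    (by
      ext v
      show geM Fr β A (geM Fr β A⁻¹ v) = v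
      rw [geM_mul, mul_inv_cancel]
      exact geM_one v)
    (by
      ext v
      show geM Fr β A⁻¹ (geM Fr β A v) = v
      rw [geM_mul, inv_mul_cancel]
      exact geM_one v)
  map_one' := by
    ext v
    exact geM_one v
  map_mul' A B := by
    ext v
    exact (geM_mul A B v).symm

variable {Fr} {β}

theorem GE_apply (A : L ≃ₗ[F] L) (v : V) : GE Fr β A v = geM Fr β A v := rfl

theorem GE_eE (A : L ≃ₗ[F] L) (x : L) : GE Fr β A (eE Fr β x) = eE Fr β (A x) := by
  rw [GE_apply, geM_apply, xc_eE, lc_eE]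
  have : du A (0 : Dual F L) = 0 := rfl
  rw [this, sub_zero, map_zero, add_zero, ← map_add]
  congr 1
  abel

theorem GE_fF (A : L ≃ₗ[F] L) (l : Dual F L) : GE Fr β A (fF Fr β l) = fF Fr β (du A l) := by
  rw [GE_apply, geM_apply, xc_fF, lc_fF, map_zero, sub_zero, map_zero, add_zero, ← map_add]
  congr 1
  abel

theorem GE_Mid (A : L ≃ₗ[F] L) {v : V} (hv : v ∈ Mid Fr i) : GE Fr β A v = v := by
  rw [GE_apply, geM_apply, xc_Mid hv, lc_Mid hv]
  have : du A (0 : Dual F L) = 0 := rfl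
  rw [this, sub_zero, map_zero, sub_zero, map_zero, map_zero, add_zero, add_zero]

theorem isIso_GE (hσ : ∀ a, H.σ a = a) (A : L ≃ₗ[F] L) : H.IsIso (GE Fr β A) := by
  intro v w
  have h2 : H.ε * H.ε = 1 := by have := H.ε_mul; rwa [hσ] at this
  have hr : ∀ (v : V) (x : L), H.h v (eE Fr β x) = H.ε * lc Fr β v x := fun v x => by
    rw [H.swap (eE Fr β x) v, hσ, h_eE_left hσ]
  have hr' : ∀ (v : V) (l : Dual F L), H.h v (fF Fr β l) = l (xc Fr β v) := fun v l => by
    rw [H.swap (fF Fr β l) v, hσ, h_fF_left hσ, ← mul_assoc, h2, one_mul]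
  rw [GE_apply, GE_apply, geM_apply, geM_apply]
  simp only [H.add_left, H.add_right, h_eE_left hσ, h_fF_left hσ, hr, hr', lc_eE, lc_fF, xc_eE, xc_fF,
    LinearMap.zero_apply, mul_zero, map_zero, add_zero]
  simp only [LinearMap.sub_apply, du_apply, map_sub, LinearEquiv.symm_apply_apply]
  ring

/-- multiplication by a unit -/
noncomputable def mu (F : Type*) [Field F] {L : Type*} [Field L] [Algebra F L] : Lˣ →* (L ≃ₗ[F] L) where
  toFun z := LinearEquiv.ofLinearMap (LinearMap.mulLeft F (z : L)) (LinearMap.mulLeft F ((z⁻¹ : Lˣ) : L))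
    (by ext x; simp) (by ext x; simp)
  map_one' := by ext x; simp
  map_mul' z w := by ext x; simp only [LinearEquiv.mul_apply, mul_assoc, _root_.Units.val_mul, _root_.LinearMap.mulLeft_mul, _root_.mul_inv_rev, _root_.Units.val_inv_eq_inv_val, _root_.LinearEquiv.coe_ofLinearMap, _root_.LinearMap.coe_comp, _root_.Function.comp_apply, _root_.LinearMap.mulLeft_apply]

theorem mu_apply (z : Lˣ) (x : L) : mu F z x = z * x := rfl

theorem gl_eq (z : Lˣ) : gl Fr β z = GE Fr β (mu F z) := by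
  refine LinearEquiv.ext fun v => ?_
  rw [gl_apply, glM_apply, GE_apply, geM_apply, mu_apply]
  have h1 : ((z : L) - 1) * xc Fr β v = z * xc Fr β v - xc Fr β v := by ring
  rw [h1]
  rfl

theorem det_mu (z : Lˣ) : LinearMap.det ((mu F z : L ≃ₗ[F] L) : L →ₗ[F] L) = Algebra.norm F (z : L) := by
  rw [Algebra.norm_apply]
  rfl

/-- the diagonal map -/
noncomputable def dgB (β : Basis {k : Fin n // k ≤ i} F L) (c : {k : Fin n // k ≤ i} → Fˣ) : L ≃ₗ[F] L :=
  LinearEquiv.ofLinearMap (β.constr F fun k => (c k : F) • β k) (β.constr F fun k => ((c k)⁻¹ : Fˣ).1 • β k)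
    (β.ext fun k => by simp only [Basis.constr_basis, _root_.Units.val_inv_eq_inv_val, _root_.LinearMap.coe_comp, _root_.Function.comp_apply, _root_.Module.Basis.constr_apply_fintype, _root_.Module.Basis.equivFun_self, _root_.ite_smul, _root_.one_smul, _root_.zero_smul, _root_.Finset.sum_ite_eq, _root_.Finset.mem_univ, ↓ _root_.reduceIte, _root_.map_smul, _root_.ne_eq, _root_.Units.ne_zero, _root_.not_false_eq_true, _root_.inv_smul_smul₀, _root_.LinearMap.id_coe, _root_.id_eq]) (β.ext fun k => by simp only [Basis.constr_basis, _root_.Units.val_inv_eq_inv_val, _root_.LinearMap.coe_comp, _root_.Function.comp_apply, _root_.Module.Basis.constr_apply_fintype, _root_.Module.Basis.equivFun_self, _root_.ite_smul, _root_.one_smul, _root_.zero_smul, _root_.Finset.sum_ite_eq, _root_.Finset.mem_univ, ↓ _root_.reduceIte, _root_.map_smul, _root_.ne_eq, _root_.Units.ne_zero, _root_.not_false_eq_true, _root_.smul_inv_smul₀, _root_.LinearMap.id_coe, _root_.id_eq])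

theorem dgB_basis (c : {k : Fin n // k ≤ i} → Fˣ) (k : {k : Fin n // k ≤ i}) : dgB β c (β k) = (c k : F) • β k := by
  show (β.constr F fun k => (c k : F) • β k) (β k) = _
  rw [Basis.constr_basis]

theorem dgB_symm_basis (c : {k : Fin n // k ≤ i} → Fˣ) (k : {k : Fin n // k ≤ i}) :
    (dgB β c).symm (β k) = ((c k)⁻¹ : Fˣ).1 • β k := by
  show (β.constr F fun k => ((c k)⁻¹ : Fˣ).1 • β k) (β k) = _
  rw [Basis.constr_basis]

theorem det_dgB (c : {k : Fin n // k ≤ i} → Fˣ) : LinearMap.det ((dgB β c : L ≃ₗ[F] L) : L →ₗ[F] L) = ∏ k, (c k : F) := by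
  rw [← LinearMap.det_toMatrix β]
  have h1 : LinearMap.toMatrix β β ((dgB β c : L ≃ₗ[F] L) : L →ₗ[F] L) = Matrix.diagonal fun k => (c k : F) := by
    ext k l
    rw [LinearMap.toMatrix_apply]
    show β.repr (dgB β c (β l)) k = _
    rw [dgB_basis, map_smul, β.repr_self, Finsupp.smul_apply, Matrix.diagonal_apply, Finsupp.single_apply, smul_eq_mul]
    by_cases h : k = l
    · subst h; simp
    · rw [if_neg (Ne.symm h), if_neg h, mul_zero]
  rw [h1, Matrix.det_diagonal]

/-- diagonal elements -/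
theorem eq_GE_dgB {g : V ≃ₗ[F] V} {c : {k : Fin n // k ≤ i} → Fˣ} (h1 : ∀ k, g (Fr.b (k.1, true)) = (c k : F) • Fr.b (k.1, true))
    (h2 : ∀ k, g (Fr.b (k.1, false)) = ((c k)⁻¹ : Fˣ).1 • Fr.b (k.1, false)) (h3 : ∀ v ∈ Mid Fr i, g v = v) :
    g = GE Fr β (dgB β c) := by
  refine LinearEquiv.ext fun v => ?_
  obtain ⟨x, hx, y, hy, w, hw, rfl⟩ := exists_decomp (Fr := Fr) i v
  obtain ⟨x, rfl⟩ := exists_eE β hx
  obtain ⟨l, rfl⟩ := exists_fF β hy
  rw [map_add, map_add, map_add, map_add, GE_eE, GE_fF, GE_Mid _ hw, h3 w hw]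
  congr 1
  congr 1
  · rw [eE_apply, map_sum, eE_apply]
    have h4 : dgB β c x = ∑ k, (β.repr x k * c k) • β k := by
      conv_lhs => rw [← β.sum_repr x]
      rw [map_sum]
      refine Finset.sum_congr rfl fun k _ => ?_
      rw [map_smul, dgB_basis, smul_smul]
    refine Finset.sum_congr rfl fun k _ => ?_
    rw [map_smul, h1, smul_smul, h4, β.repr_sum_self]
  · rw [fF_apply, map_sum, fF_apply]
    refine Finset.sum_congr rfl fun k _ => ?_
    rw [map_smul, h2, smul_smul, du_apply, dgB_symm_basis, map_smul, smul_eq_mul, mul_comm]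

end Frame

end Cfsg.Agent.H279.VZ
end

-- part: H279/VZ/Hd
section
/-!
# S4842: diagonal conjugates of the elliptic elements (helper279)

* `dg_mem` : diagonal elements concentrated in two places, of determinant one, lie in `M.I`;
* `exists_conj` : for a diagonal isometry `sh` there is `a` in the Levi subgroup with `sh t sh⁻¹ = a t a⁻¹`,
  `t = gl z * D`.
-/

set_option autoImplicit false
set_option linter.unusedSectionVars false

namespace Cfsg.Agent.H279.VZ

open CoxeterSystem Cfsg.Agent.ChevalleyStructure.CoxeterGeom Cfsg.Agent.Tits.Roots Cfsg.Agent.Nodes.TypeC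
open Cfsg.Agent.Nodes Cfsg.Agent.Nodes.Comb Cfsg.Agent.Nodes.Reps Cfsg.Agent.Nodes.WittRoot Cfsg.Agent.Nodes.BNOf
open Cfsg.Agent.Nodes.WittRGD Cfsg.Agent.Nodes.RGDLib Cfsg.Agent.Nodes.WittAll
open Cfsg.Agent.TitsThree Cfsg.Agent.TitsThree.Siegel Cfsg.Agent.TitsThree.WittFrame
  Cfsg.Agent.TitsThree.WittWeyl Cfsg.Agent.TitsThree.FrameCN
open Cfsg.Agent.Nodes.StabComb Cfsg.Agent.Nodes.Bruhat Cfsg.Agent.Nodes.LeviDec
open Cfsg.Agent.H62.PCFrame Cfsg.Agent.H62.PCWitt Cfsg.Agent.H62.FrameSL Cfsg.Agent.H985.VZ Module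
open Cfsg.Agent.H410.OZ Cfsg.Agent.H644.OZ
open scoped MatrixGroups

section Frame

variable {F : Type*} [Field F] {V : Type*} [AddCommGroup V] [Module F V] {H : HForm F V} {n : ℕ}
  {Fr : Frame H (Fin n)}

/-- `diag (y, y⁻¹)` -/
def dS (y : Fˣ) : SL(2, F) := ⟨!![(y : F), 0; 0, ((y⁻¹ : Fˣ) : F)], by
  rw [Matrix.det_fin_two_of, ← Units.val_mul, mul_inv_cancel]; simp⟩

theorem phiS_dS (hσ : ∀ a, H.σ a = a) {i j : Fin n} (hij : i ≠ j) (y : Fˣ) :
    phiS Fr hij (dS y) = dg Fr (lam (Function.update (Function.update 1 i y) j y⁻¹)) 1 := by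
  refine LinearEquiv.ext fun v => ?_
  rw [phiS_apply, linS_apply, dg_apply, Units.val_one, one_smul]
  have e00 : (dS y).1 0 0 = (y : F) := rfl
  have e01 : (dS y).1 0 1 = 0 := rfl
  have e10 : (dS y).1 1 0 = 0 := rfl
  have e11 : (dS y).1 1 1 = ((y⁻¹ : Fˣ) : F) := rfl
  set u : Fin n → Fˣ := Function.update (Function.update (1 : Fin n → Fˣ) i y) j y⁻¹ with hu
  have hi : u i = y := by rw [hu, Function.update_of_ne hij, Function.update_self]
  have hj : u j = y⁻¹ := Function.update_self _ _ _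
  have h1 : ∑ x : Fin n × Bool, ((((lam u x : Fˣ) : F) - 1) * cf Fr x v) • Fr.b x =
      ∑ k : Fin n, ((((u k : F) - 1) * cf Fr (k, true) v) • Fr.b (k, true) +
        (((((u k)⁻¹ : Fˣ) : F) - 1) * cf Fr (k, false) v) • Fr.b (k, false)) := by
    rw [Fintype.sum_prod_type]
    refine Finset.sum_congr rfl fun k _ => ?_
    rw [Fintype.sum_bool]
    rfl
  rw [h1, Finset.sum_eq_add i j hij]
  · rw [hi, hj]
    simp only [cf_apply, e00, e01, e10, e11, hσ, map_zero, inv_inv]
    have n1 : neg ((i, true) : Fin n × Bool) = (i, false) := rfl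
    have n2 : neg ((i, false) : Fin n × Bool) = (i, true) := rfl
    have n3 : neg ((j, true) : Fin n × Bool) = (j, false) := rfl
    have n4 : neg ((j, false) : Fin n × Bool) = (j, true) := rfl
    have t1 : ∀ k : Fin n, Fr.η (k, false) = 1 := fun k => rfl
    have t2 : ∀ k : Fin n, Fr.η (k, true) = H.ε := fun k => rfl
    rw [n1, n2, n3, n4, t1, t1, t2, t2, inv_one]
    module
  · intro k _ hk
    have h2 : u k = 1 := by
      rw [hu, Function.update_of_ne hk.2, Function.update_of_ne hk.1, Pi.one_apply]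
    rw [h2]
    simp
  · intro h; exact absurd (Finset.mem_univ _) h
  · intro h; exact absurd (Finset.mem_univ _) h

variable {K : Type*} [Group K] {M : Model Fr K}

theorem phiS_mem (M : Model Fr K) {i j : Fin n} (hij : i ≠ j) (S : SL(2, F)) : phiS Fr hij S ∈ M.I := by
  have h1 : (phiS Fr hij).range ≤ M.I := by
    rw [phiS_range]
    refine sup_le ?_ ?_
    · rintro _ ⟨t, rfl⟩
      exact M.hX _ _ _
    · rintro _ ⟨t, rfl⟩
      exact M.hX _ _ _
  exact h1 ⟨S, rfl⟩

theorem dg_mem (hσ : ∀ a, H.σ a = a) {i j : Fin n} (hij : i ≠ j) (y : Fˣ) :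
    dg Fr (lam (Function.update (Function.update 1 i y) j y⁻¹)) 1 ∈ M.I := by
  rw [← phiS_dS hσ hij]
  exact phiS_mem M hij _

theorem dg_lam_mid {i : Fin n} {l : Fin n → Fˣ} (hl : ∀ k, i < k → l k = 1) {v : V} (hv : v ∈ Mid Fr i) :
    dg Fr (lam l) 1 v = v := by
  rw [dg_apply, Units.val_one, one_smul, Finset.sum_eq_zero, add_zero]
  rintro ⟨k, s⟩ _
  by_cases hk : k ≤ i
  · have h1 : cf Fr (k, s) v = 0 := by
      rw [cf_apply]
      have h2 : H.h v (Fr.b (neg (k, s))) = 0 := hv k hk (!s)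
      rw [h2, zero_mul]
    rw [h1, mul_zero, zero_smul]
  · have h1 : lam l (k, s) = 1 := by
      unfold lam
      rw [hl k (not_le.1 hk)]
      simp
    rw [h1, Units.val_one, sub_self, zero_mul, zero_smul]

end Frame

section Model

variable {F : Type*} [Field F] [Finite F] {V : Type*} [AddCommGroup V] [Module F V] [Finite V] {H : HForm F V} {n : ℕ}
  {Fr : Frame H (Fin n)} {K : Type*} [Group K] {M : Model Fr K}
  {W : Type*} [Group W] {cs : CoxeterSystem (CoxeterMatrix.B n) W} {p : ℕ} [Fact p.Prime]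
  [CharP F p] (hA : AmbT Fr p M.I) {p0 : Fr.Adm} (hp0 : p0.c ≠ 0) (hn : 0 < n)
  {i : Fin n} {L : Type*} [Field L] [Finite L] [Algebra F L] {β : Basis {k : Fin n // k ≤ i} F L}
  {s : ℕ} {D : V ≃ₗ[F] V} {z : Lˣ}

theorem gl_comm' (hD : Comp Fr i s D) (z : Lˣ) : gl Fr β z * D = D * gl Fr β z := by
  ext v
  obtain ⟨x, hx, y, hy, w, hw, rfl⟩ := exists_decomp (Fr := Fr) i v
  obtain ⟨x, rfl⟩ := exists_eE β hx
  obtain ⟨l, rfl⟩ := exists_fF β hy
  change gl Fr β z (D (eE Fr β x + fF Fr β l + w)) = D (gl Fr β z (eE Fr β x + fF Fr β l + w))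
  simp only [map_add, hD.eE, hD.fF, gl_eE, gl_fF, gl_Mid _ hw, gl_Mid _ (hD.mid hw)]

/-- **the element of `M.I`** -/
theorem exists_w (hσ : ∀ a, H.σ a = a) (hGE : ∀ A : L ≃ₗ[F] L, LinearMap.det (A : L →ₗ[F] L) = 1 → GE Fr β A ∈ M.I)
    (hi : (i : ℕ) + 1 = n ∨ (i : ℕ) + 2 = n) (l : Fin n → Fˣ) :
    ∃ w : Lˣ, dg Fr (lam l) 1 * (gl Fr β w)⁻¹ ∈ M.I := by
  have hfd : FiniteDimensional F L := Module.Finite.of_finite
  -- the torus element
  obtain ⟨m, hm, hmk⟩ : ∃ m : Fin n → Fˣ, dg Fr (lam m) 1 ∈ M.I ∧ ∀ k, i < k → m k = l k := by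
    rcases hi with hi | hi
    · refine ⟨1, ?_, fun k hk => ?_⟩
      · rw [lam_one, dg_one]
        exact M.I.one_mem
      · exfalso
        have := k.2
        rw [Fin.lt_def] at hk
        omega
    · set j : Fin n := ⟨(i : ℕ) + 1, by omega⟩ with hj
      have hij : i ≠ j := by
        intro h
        have := congrArg Fin.val h
        simp [hj] at this
      refine ⟨Function.update (Function.update 1 i (l j)⁻¹) j ((l j)⁻¹)⁻¹, dg_mem hσ hij _, fun k hk => ?_⟩
      have hkj : k = j := by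
        apply Fin.ext
        have := k.2
        rw [Fin.lt_def] at hk
        simp only [hj]
        omega
      rw [hkj, Function.update_self, inv_inv]
  -- the remaining diagonal element
  let c : {k : Fin n // k ≤ i} → Fˣ := fun k => (m k.1)⁻¹ * l k.1
  have hlm : dg Fr (lam l) 1 = dg Fr (lam m) 1 * dg Fr (lam (m⁻¹ * l)) 1 := by
    have h1 := dg_mul Fr (lam m) (lam (m⁻¹ * l)) 1 1
    rw [← lam_mul, mul_inv_cancel_left, one_mul] at h1
    exact h1
  have hg : dg Fr (lam (m⁻¹ * l)) 1 = GE Fr β (dgB β c) := by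
    refine eq_GE_dgB (fun k => ?_) (fun k => ?_) (fun v hv => ?_)
    · exact dg_b Fr _ _ _
    · exact dg_b Fr _ _ _
    · refine dg_lam_mid (fun k hk => ?_) hv
      rw [Pi.mul_apply, Pi.inv_apply, hmk k hk, inv_mul_cancel]
  -- the norm
  obtain ⟨w0, hw0⟩ := FiniteField.norm_surjective F L (∏ k, (c k : F))
  have hne : (∏ k, (c k : F)) ≠ 0 := Finset.prod_ne_zero_iff.2 fun k _ => (c k).ne_zero
  have hw00 : w0 ≠ 0 := by
    rintro rfl
    rw [Algebra.norm_zero] at hw0
    exact hne hw0.symm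
  refine ⟨Units.mk0 w0 hw00, ?_⟩
  have h1 : dg Fr (lam l) 1 * (gl Fr β (Units.mk0 w0 hw00))⁻¹ =
      dg Fr (lam m) 1 * GE Fr β (dgB β c * (mu F (Units.mk0 w0 hw00))⁻¹) := by
    rw [hlm, hg, gl_eq, map_mul, map_inv, mul_assoc]
  rw [h1]
  refine M.I.mul_mem hm (hGE _ ?_)
  have h2 : ∀ A B : L ≃ₗ[F] L, LinearMap.det ((A * B : L ≃ₗ[F] L) : L →ₗ[F] L) =
      LinearMap.det (A : L →ₗ[F] L) * LinearMap.det (B : L →ₗ[F] L) := fun A B => by
    rw [← LinearMap.det_comp]
    rfl
  have h3 : LinearMap.det (((mu F (Units.mk0 w0 hw00))⁻¹ : L ≃ₗ[F] L) : L →ₗ[F] L) *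
      LinearMap.det ((mu F (Units.mk0 w0 hw00) : L ≃ₗ[F] L) : L →ₗ[F] L) = 1 := by
    rw [← h2, inv_mul_cancel]
    exact LinearMap.det_id
  rw [det_mu, Units.val_mk0, hw0] at h3
  rw [h2, det_dgB, mul_comm]
  exact h3

include hA hp0 hn

/-- **the class of `t` is invariant under diagonal isometries** -/
theorem exists_conj (hσ : ∀ a, H.σ a = a)
    (hGE : ∀ A : L ≃ₗ[F] L, LinearMap.det (A : L →ₗ[F] L) = 1 → GE Fr β A ∈ M.I)
    (hi : (i : ℕ) + 1 = n ∨ (i : ℕ) + 2 = n) (hD : Comp Fr i s D) (ht : gl Fr β z * D ∈ M.I) (l : Fin n → Fˣ) :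
    ∃ a ∈ LJ cs (isCartan n) (WittModel.T M) (WittModel.X M) {i}ᶜ,
      ∀ h : dg Fr (lam l) 1 * (gl Fr β z * D) * (dg Fr (lam l) 1)⁻¹ ∈ M.I,
        M.φ ⟨_, h⟩ = a * M.φ ⟨_, ht⟩ * a⁻¹ := by
  obtain ⟨w, hw⟩ := exists_w (M := M) hσ hGE hi l
  refine ⟨M.φ ⟨_, hw⟩, mem_LJ_of hA hp0 hn ?_ ?_, fun h => ?_⟩
  · intro x hx
    show dg Fr (lam l) 1 ((gl Fr β w)⁻¹ x) ∈ _
    refine mono_maps (mono_dg Fr _ _) _ ?_
    obtain ⟨y, rfl⟩ := exists_eE β hx
    rw [← map_inv, gl_eE]
    exact eE_mem _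
  · intro x hx
    show dg Fr (lam l) 1 ((gl Fr β w)⁻¹ x) ∈ _
    refine mono_maps (mono_dg Fr _ _) _ ?_
    obtain ⟨y, rfl⟩ := exists_fF β hx
    rw [← map_inv, gl_fF]
    exact fF_mem _
  · have h1 : gl Fr β w * (gl Fr β z * D) = gl Fr β z * D * gl Fr β w := by
      rw [← mul_assoc, ← map_mul, mul_comm w z, map_mul, mul_assoc, gl_comm' hD w, mul_assoc]
    have h2 : (gl Fr β w)⁻¹ * (gl Fr β z * D) * gl Fr β w = gl Fr β z * D := by
      rw [mul_assoc, ← h1, inv_mul_cancel_left]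
    have h3 : (⟨_, h⟩ : M.I) = ⟨_, hw⟩ * ⟨_, ht⟩ * ⟨_, hw⟩⁻¹ := by
      apply Subtype.ext
      show dg Fr (lam l) 1 * (gl Fr β z * D) * (dg Fr (lam l) 1)⁻¹ =
        dg Fr (lam l) 1 * (gl Fr β w)⁻¹ * (gl Fr β z * D) * (dg Fr (lam l) 1 * (gl Fr β w)⁻¹)⁻¹
      rw [mul_inv_rev, inv_inv]
      conv_lhs => rw [← h2]
      group
    rw [h3, map_mul, map_mul, map_inv]

end Model

end Cfsg.Agent.H279.VZ
end

private theorem dce_cd93d3069562 : _root_.True := by
  try have : _root_.True := by simp only [_root_.Cfsg.Agent.H410.OZ.dSL.eq_1]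
  try have : _root_.True := by simp only [_root_.Cfsg.Agent.TitsThree.KSideO.wodd.eq_1]
  try have : _root_.True := by simp only [_root_.Cfsg.Agent.TitsThree.WittFrame.Frame.mk.congr_simp]
  try have : _root_.True := by simp only [_root_.Cfsg.Agent.TitsThree.WBridge.toFrame.eq_1]
  try have : _root_.True := by simp only [_root_.Cfsg.Agent.TitsThree.SiegelGen.WFrame.mk.congr_simp]
  try have : _root_.True := by simp only [_root_.Cfsg.Agent.H62.FrameSL.phiS.congr_simp]
  exact _root_.True.intro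
end

-- part: H644/OZ/OmTD
section
prune_inst 0x3520254545e20000401c0512100018c3b3000022004b00000904004004c80c2220812e61b00001000a1084452031006001000010422000000a000000011c0481000002042140a008420016000180010000000000000000000000000000000000204010000
set_option linter.all false
open scoped Cfsg.Agent.FastGrp

-- part: H644/OZ/Co
section
/-!
# S4842: coroots of type `B` in a model on a Witt frame, `σ = 1` (helper644)

* `hh M hσ hA hp j : Fˣ →* K` : the coroots (`b (j, +) ↦ x b (j, +)`, `b (j+1, +) ↦ x⁻¹ b (j+1, +)`, resp. `x²`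
  for the last);
* `td_of` : `TD (T M) (nw M hA p0) (Ap true n) hh` if the coroots generate the torus;
* `sh_nn` : the commutators of the fundamental coweights and the Weyl elements.
-/

set_option autoImplicit false
set_option linter.unusedSectionVars false

namespace Cfsg.Agent.H644.OZ

open Cfsg
open CoxeterSystem Cfsg.Agent.ChevalleyStructure.CoxeterGeom Cfsg.Agent.Tits.Roots Cfsg.Agent.Nodes.TypeC
open Cfsg.Agent.Nodes Cfsg.Agent.Nodes.Comb Cfsg.Agent.Nodes.Reps Cfsg.Agent.Nodes.WittRoot Cfsg.Agent.Nodes.BNOf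
open Cfsg.Agent.Nodes.WittRGD Cfsg.Agent.Nodes.RGDLib Cfsg.Agent.Nodes.WittAll
open Cfsg.Agent.TitsThree Cfsg.Agent.TitsThree.Siegel Cfsg.Agent.TitsThree.WittFrame
  Cfsg.Agent.TitsThree.WittWeyl Cfsg.Agent.TitsThree.FrameCN
open Cfsg.Agent.Nodes.StabComb Cfsg.Agent.Nodes.Bruhat Cfsg.Agent.Nodes.LeviDec
open QuadraticMap Cfsg.Agent.LieClassical Cfsg.Agent.LieClassical.OrthCore Cfsg.Agent.LieClassical.OrthForms
open Cfsg.Agent.LieClassical.OrthFinite
open Cfsg.Agent.TitsThree.KSideO Cfsg.Agent.TitsThree.WBridge Cfsg.Agent.Nodes.WittU Cfsg.Agent.Nodes.WittInst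
open Cfsg.Agent.ClassicalGeometry.SpinorSign Cfsg.Agent.ClassicalGeometry.Reflection
open Cfsg.Agent.H200.VZ

/-! ### General models, `σ = 1` -/

section Gen

variable {F : Type*} [Field F] {V : Type*} [AddCommGroup V] [Module F V] {H : HForm F V} {n : ℕ}
  {Fr : Frame H (Fin n)}

/-- the last Weyl element and the last coroot -/
theorem nX_dg (hσ : ∀ x, H.σ x = x) (hV0 : ∀ v, (∀ x, H.h v (Fr.b x) = 0) → v ∈ Fr.V0) {j : Fin n}
    (hj : (j : ℕ) + 1 < n) (x : Fˣ) :
    dg Fr (cc (co j) x) 1 * nX Fr (j, true) (nx j) 1 = nX Fr (j, true) (nx j) x := by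
  have hne : ((j, true) : Fin n × Bool).1 ≠ (nx j).1 := by
    unfold nx; rw [dif_pos hj]; simp [Fin.ext_iff]
  have hnx : nx j = (⟨j + 1, hj⟩, false) := by unfold nx; rw [dif_pos hj]
  have hjn : (⟨(j : ℕ) + 1, hj⟩ : Fin n) ≠ j := by simp [Fin.ext_iff]
  have c1 : co j j = 1 := by unfold co; rw [if_pos rfl, if_neg (by omega)]
  have c2 : co j ⟨j + 1, hj⟩ = -1 := by unfold co; rw [if_neg hjn, if_pos rfl]
  have c3 : ∀ k : Fin n, k ≠ j → k ≠ ⟨j + 1, hj⟩ → co j k = 0 := by
    intro k h1 h2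
    unfold co
    rw [if_neg h1, if_neg fun h => h2 (Fin.ext h)]
  have hx := x.ne_zero
  refine ext_b hV0 (fun z => ?_) fun w hw => ?_
  · rw [mul_apply']
    obtain ⟨k, b⟩ := z
    by_cases h1 : k = j
    · subst h1
      cases b
      · have e1 : ((k, false) : Fin n × Bool) = neg (k, true) := rfl
        rw [e1, nX_apply_neg' Fr hne one_ne_zero, nX_apply_neg' Fr hne hx, hnx, map_neg, map_smul, dg_b, smul_smul,
          hσ, hσ]
        have : ((cc (co k) x (⟨k + 1, hj⟩, false) : Fˣ) : F) = x := by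
          unfold cc
          rw [lam_false, c2, zpow_neg, zpow_one, inv_inv]
        rw [this]
        congr 2
        ring
      · rw [nX_apply_self Fr hne one_ne_zero, nX_apply_self Fr hne hx, hnx, map_neg, map_smul]
        have e1 : neg ((⟨(k : ℕ) + 1, hj⟩, false) : Fin n × Bool) = (⟨k + 1, hj⟩, true) := rfl
        rw [e1, dg_b, smul_smul]
        have : ((cc (co k) x (⟨k + 1, hj⟩, true) : Fˣ) : F) = (x : F)⁻¹ := by
          unfold cc
          rw [lam_true, c2, zpow_neg, zpow_one, Units.val_inv_eq_inv_val]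
        rw [this, inv_one, one_mul]
    by_cases h2 : k = ⟨j + 1, hj⟩
    · subst h2
      cases b
      · have e1 := nX_apply_self' Fr hne (one_ne_zero (α := F))
        have e2 := nX_apply_self' Fr hne hx
        rw [hnx] at e1 e2
        rw [hnx, e1, e2, map_smul]
        have e3 : neg ((j, true) : Fin n × Bool) = (j, false) := rfl
        rw [e3, dg_b, smul_smul, hσ, hσ]
        have : ((cc (co j) x (j, false) : Fˣ) : F) = (x : F)⁻¹ := by
          unfold cc
          rw [lam_false, c1, zpow_one, Units.val_inv_eq_inv_val]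
        rw [this]
        congr 1
        simp only [mul_one, mul_inv]
      · have e1 := nX_apply_neg Fr hne (one_ne_zero (α := F))
        have e2 := nX_apply_neg Fr hne hx
        rw [hnx] at e1 e2
        have e3 : neg ((⟨(j : ℕ) + 1, hj⟩, false) : Fin n × Bool) = (⟨j + 1, hj⟩, true) := rfl
        rw [e3] at e1 e2
        rw [hnx, e1, e2, map_smul, dg_b, one_smul]
        have : ((cc (co j) x (j, true) : Fˣ) : F) = (x : F) := by
          unfold cc
          rw [lam_true, c1, zpow_one]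
        rw [this]
    · have g1 : ((k, b) : Fin n × Bool).1 ≠ ((j, true) : Fin n × Bool).1 := h1
      have g2 : ((k, b) : Fin n × Bool).1 ≠ (nx j).1 := by rw [hnx]; exact h2
      rw [nX_apply_of_ne Fr hne g1 g2, nX_apply_of_ne Fr hne g1 g2, dg_b]
      have : ((cc (co j) x (k, b) : Fˣ) : F) = 1 := by
        unfold cc
        cases b
        · rw [lam_false, c3 k h1 h2, zpow_zero, inv_one, Units.val_one]
        · rw [lam_true, c3 k h1 h2, zpow_zero, Units.val_one]
      rw [this, one_smul]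
  · rw [mul_apply', nX_apply_V0 Fr hne hw, nX_apply_V0 Fr hne hw, dg_V0 Fr _ _ hw, Units.val_one, one_smul]

theorem nZ_dg (hσ : ∀ x, H.σ x = x) (hV0 : ∀ v, (∀ x, H.h v (Fr.b x) = 0) → v ∈ Fr.V0) {j : Fin n}
    (hj : (j : ℕ) + 1 = n) {p : Fr.Adm} (hp : p.c ≠ 0) (x : Fˣ) :
    dg Fr (cc (co j) x) 1 * nZ Fr (j, true) p = nZ Fr (j, true) (Frame.Adm.smul (x : F) p) := by
  have hx := x.ne_zero
  have hq : (Frame.Adm.smul (x : F) p).c = x * x * p.c := by rw [Frame.Adm.smul_c, hσ]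
  have hq0 : (Frame.Adm.smul (x : F) p).c ≠ 0 := by
    rw [hq]
    exact mul_ne_zero (mul_ne_zero hx hx) hp
  have hw0 : (Frame.Adm.smul (x : F) p).w = (x : F) • p.w := rfl
  have c1 : co j j = 2 := by unfold co; rw [if_pos rfl, if_pos hj]
  have c3 : ∀ k : Fin n, k ≠ j → co j k = 0 := by
    intro k h1
    unfold co
    have := k.2
    rw [if_neg h1, if_neg (by omega)]
  refine ext_b hV0 (fun z => ?_) fun w hw => ?_
  · rw [mul_apply']
    obtain ⟨k, b⟩ := z
    by_cases h1 : k = j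
    · subst h1
      cases b
      · have e1 : ((k, false) : Fin n × Bool) = neg (k, true) := rfl
        rw [e1, nZ_apply_neg Fr _ _ hp, nZ_apply_neg Fr _ _ hq0, map_smul, dg_b, smul_smul, hq]
        have : ((cc (co k) x (k, true) : Fˣ) : F) = x * x := by
          unfold cc
          rw [lam_true, c1, zpow_two, Units.val_mul]
        rw [this]
        congr 1
        ring
      · rw [nZ_apply_self Fr _ _ hp, nZ_apply_self Fr _ _ hq0, map_smul, hσ, hσ, hq]
        have e1 : neg ((k, true) : Fin n × Bool) = (k, false) := rfl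
        rw [e1, dg_b, smul_smul]
        have : ((cc (co k) x (k, false) : Fˣ) : F) = (x * x : F)⁻¹ := by
          unfold cc
          rw [lam_false, c1, zpow_two, Units.val_inv_eq_inv_val, Units.val_mul]
        rw [this]
        congr 1
        rw [mul_inv (x * x : F)]
        ring
    · have g1 : ((k, b) : Fin n × Bool).1 ≠ ((j, true) : Fin n × Bool).1 := h1
      rw [nZ_apply_of_ne Fr g1, nZ_apply_of_ne Fr g1, dg_b]
      have : ((cc (co j) x (k, b) : Fˣ) : F) = 1 := by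
        unfold cc
        cases b
        · rw [lam_false, c3 k h1, zpow_zero, inv_one, Units.val_one]
        · rw [lam_true, c3 k h1, zpow_zero, Units.val_one]
      rw [this, one_smul]
  · rw [mul_apply', nZ_apply_V0 Fr _ _ hp hw, nZ_apply_V0 Fr _ _ hq0 hw, hq, hw0]
    have hV : w + (H.ε⁻¹ * p.c⁻¹ * H.h w p.w) • p.w ∈ Fr.V0 :=
      Fr.V0.add_mem hw (Fr.V0.smul_mem _ (Fr.ok_mem p.ok))
    rw [dg_V0 Fr _ _ hV, Units.val_one, one_smul, H.smul_right, hσ, smul_smul]
    congr 2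
    field_simp

variable {K : Type*} [Group K] (M : Model Fr K)

/-- the coroots are in the ambient group -/
theorem co_mem (hσ : ∀ x, H.σ x = x) (hV0 : ∀ v, (∀ x, H.h v (Fr.b x) = 0) → v ∈ Fr.V0) {p : Fr.Adm} (hp : p.c ≠ 0)
    (j : Fin n) (x : Fˣ) : dg Fr (cc (co j) x) 1 ∈ M.I := by
  have hX : ∀ a b t, nX Fr a b t ∈ M.I := fun a b t => mul_mem (mul_mem (M.hX _ _ _) (M.hX _ _ _)) (M.hX _ _ _)
  have hZ : ∀ a p, nZ Fr a p ∈ M.I := fun a p => mul_mem (mul_mem (M.hZ _ _) (M.hZ _ _)) (M.hZ _ _)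
  by_cases hj : (j : ℕ) + 1 < n
  · have h1 := nX_dg hσ hV0 hj x
    rw [← eq_mul_inv_iff_mul_eq] at h1
    rw [h1]
    exact mul_mem (hX _ _ _) (inv_mem (hX _ _ _))
  · have hj' : (j : ℕ) + 1 = n := by have := j.2; omega
    have h1 := nZ_dg hσ hV0 hj' hp x
    rw [← eq_mul_inv_iff_mul_eq] at h1
    rw [h1]
    exact mul_mem (hZ _ _) (inv_mem (hZ _ _))

/-! ### The coroots in `K` -/

section hh

variable (hσ : ∀ x, H.σ x = x) (hA : Amb Fr M.I) {p : Fr.Adm} (hp : p.c ≠ 0)

/-- **the coroots** -/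
noncomputable def hh (j : Fin n) : Fˣ →* K where
  toFun x := M.φ ⟨dg Fr (cc (co j) x) 1, co_mem M hσ hA.V0 hp j x⟩
  map_one' := by
    rw [← map_one M.φ]
    congr 1
    apply Subtype.ext
    show dg Fr (cc (co j) 1) 1 = 1
    rw [cc_one, dg_one]
  map_mul' x y := by
    rw [← map_mul M.φ]
    congr 1
    apply Subtype.ext
    show dg Fr (cc (co j) (x * y)) 1 = dg Fr (cc (co j) x) 1 * dg Fr (cc (co j) y) 1
    rw [cc_mul, ← dg_mul, mul_one]

theorem hh_apply (j : Fin n) (x : Fˣ) :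
    hh M hσ hA hp j x = M.φ ⟨dg Fr (cc (co j) x) 1, co_mem M hσ hA.V0 hp j x⟩ := rfl

/-- a variant with an arbitrary representative -/
theorem hh_eq (j : Fin n) (x : Fˣ) {g : M.I} (hg : g.1 = dg Fr (cc (co j) x) 1) : hh M hσ hA hp j x = M.φ g := by
  rw [hh_apply]
  congr 1
  exact Subtype.ext hg.symm

theorem dg_pow (s : Fin n × Bool → Fˣ) (k : ℤ) : dg Fr (s ^ k) 1 = (dg Fr s 1) ^ k := by
  let f : (Fin n × Bool → Fˣ) →* (V ≃ₗ[F] V) :=
    { toFun := fun s => dg Fr s 1
      map_one' := dg_one Fr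
      map_mul' := fun s s' => by rw [← dg_mul, mul_one] }
  exact map_zpow f s k

theorem Ap_eq (j i : Fin n) : Ap true n j i = prB j i := by
  unfold Ap prB
  simp

include M hA in
theorem nn_V0 {p0 : Fr.Adm} (hp0 : p0.c ≠ 0) (i : Fin n) {w : V} (hw : w ∈ Fr.V0) : _root_.Cfsg.Agent.Nodes.WittRGD.nn Fr p0 i w ∈ Fr.V0 :=
  hA.map_V0 (_root_.Cfsg.Agent.Nodes.WittRGD.nn_mem hA p0 i) (mono_nn hp0 i) (ρ := sg i) (sg_sg i) hw

include M hA in
theorem conj_nn {p0 : Fr.Adm} (hp0 : p0.c ≠ 0) (i : Fin n) (e : Fin n → ℤ) (x : Fˣ) :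
    (_root_.Cfsg.Agent.Nodes.WittRGD.nn Fr p0 i)⁻¹ * dg Fr (cc e x) 1 * _root_.Cfsg.Agent.Nodes.WittRGD.nn Fr p0 i = dg Fr (cc (sE i e) x) 1 := by
  rw [conj_dg hA.V0 (mono_nn hp0 i) (fun w hw => nn_V0 M hA hp0 i hw), cc_sg]

/-- **the torus data**, from the generation of the torus by the coroots -/
theorem td_of {p0 : Fr.Adm} (hp0 : p0.c ≠ 0)
    (hgen : ∀ g ∈ Tor Fr M.I, g ∈ Subgroup.closure {y | ∃ (j : Fin n) (x : Fˣ), y = dg Fr (cc (co j) x) 1}) :
    TD (WittModel.T M) (WittModel.nw M hA p0) (Ap true n) (hh M hσ hA hp) where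
  mem j x := by
    rw [hh_apply]
    exact Subgroup.mem_map_of_mem _ (Subgroup.mem_subgroupOf.2 ⟨co_mem M hσ hA.V0 hp j x, mono_dg Fr _ _⟩)
  conj i j x := by
    unfold WittModel.nw
    rw [hh_apply, hh_apply, ← map_inv, ← map_mul, ← map_mul, ← map_zpow, ← map_mul]
    congr 1
    apply Subtype.ext
    show (_root_.Cfsg.Agent.Nodes.WittRGD.nn Fr p0 i)⁻¹ * dg Fr (cc (co j) x) 1 * _root_.Cfsg.Agent.Nodes.WittRGD.nn Fr p0 i =
      dg Fr (cc (co j) x) 1 * (dg Fr (cc (co i) x) 1) ^ (-Ap true n j i)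
    rw [conj_nn M hA hp0, sE_co, Ap_eq, cc_add, cc_smul, ← dg_pow, ← dg_mul, mul_one]
  gen := by
    rintro _ ⟨g, hg, rfl⟩
    have hg' := hgen g.1 (Subgroup.mem_subgroupOf.1 hg)
    set C : Subgroup K := Subgroup.closure {y | ∃ (j : Fin n) (x : Fˣ), y = hh M hσ hA hp j x} with hC
    have h1 : Subgroup.closure {y | ∃ (j : Fin n) (x : Fˣ), y = dg Fr (cc (co j) x) 1} ≤
        (C.comap M.φ).map M.I.subtype := by
      rw [Subgroup.closure_le]
      rintro _ ⟨j, x, rfl⟩
      exact ⟨⟨_, co_mem M hσ hA.V0 hp j x⟩, Subgroup.subset_closure ⟨j, x, rfl⟩, rfl⟩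
    obtain ⟨g', hg2, e⟩ := h1 hg'
    have e' : g' = g := Subtype.ext e
    rw [e'] at hg2
    exact hg2

include M hA in
/-- the fundamental coweights and the Weyl elements -/
theorem cw_nn {p0 : Fr.Adm} (hp0 : p0.c ≠ 0) (i j : Fin n) (x : Fˣ) :
    (_root_.Cfsg.Agent.Nodes.WittRGD.nn Fr p0 i)⁻¹ * (dg Fr (cc (cw j) x) 1 * _root_.Cfsg.Agent.Nodes.WittRGD.nn Fr p0 i * (dg Fr (cc (cw j) x) 1)⁻¹) =
      dg Fr (cc (if i = j then co j else 0) x) 1 := by
  have h1 : dg Fr (cc (cw j + if i = j then co j else 0) x) 1 =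
      dg Fr (cc (if i = j then co j else 0) x) 1 * dg Fr (cc (cw j) x) 1 := by
    rw [add_comm, cc_add, ← dg_mul, mul_one]
  rw [← mul_assoc, ← mul_assoc, conj_nn M hA hp0, sE_cw, h1, mul_inv_cancel_right]

end hh

end Gen

end Cfsg.Agent.H644.OZ
end

-- part: H644/OZ/OmTD
section
/-!
# S4842: torus data of `POmega_{2m+1}(q)`, `q` odd (helper644)

`Fr = toFrame (wodd m F)`, `M = model (wodd m F) hG hp`, `M.I = E Q`.

* `td` : `TD (T M) (nw M hA p0) (Ap true m) (hh M hσ hA hp0)`;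
* `sh j x` : `b (k, +) ↦ x⁻¹ b (k, +)` for `k ≤ j`, the identity on `V0` and on `b (k, ±)`, `k > j`;
* `dd hG j x` : the automorphism with `dd (φ g) = φ (sh g sh⁻¹)`; `dia_dd`, `dd_nw_self`, `dd_nw_ne`;
* `hd_of` : `HD` from the elements `a`.
-/

set_option autoImplicit false
set_option linter.unusedSectionVars false

namespace Cfsg.Agent.H644.OZ

open Cfsg
open CoxeterSystem Cfsg.Agent.ChevalleyStructure.CoxeterGeom Cfsg.Agent.Tits.Roots Cfsg.Agent.Nodes.TypeC
open Cfsg.Agent.Nodes Cfsg.Agent.Nodes.Comb Cfsg.Agent.Nodes.Reps Cfsg.Agent.Nodes.WittRoot Cfsg.Agent.Nodes.BNOf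
open Cfsg.Agent.Nodes.WittRGD Cfsg.Agent.Nodes.RGDLib Cfsg.Agent.Nodes.WittAll
open Cfsg.Agent.TitsThree Cfsg.Agent.TitsThree.Siegel Cfsg.Agent.TitsThree.WittFrame
  Cfsg.Agent.TitsThree.WittWeyl Cfsg.Agent.TitsThree.FrameCN
open Cfsg.Agent.Nodes.StabComb Cfsg.Agent.Nodes.Bruhat Cfsg.Agent.Nodes.LeviDec
open QuadraticMap Cfsg.Agent.LieClassical Cfsg.Agent.LieClassical.OrthCore Cfsg.Agent.LieClassical.OrthForms
open Cfsg.Agent.LieClassical.OrthFinite Cfsg.Agent.LieClassical.OrthSimple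
open Cfsg.Agent.TitsThree.KSideO Cfsg.Agent.TitsThree.WBridge Cfsg.Agent.Nodes.WittU Cfsg.Agent.Nodes.WittInst
open Cfsg.Agent.ClassicalGeometry.SpinorSign Cfsg.Agent.ClassicalGeometry.Reflection
open Cfsg.Agent.H200.VZ

/-! ### Diagonal maps in coordinates -/

section Diag

variable {ι : Type} [Fintype ι] [DecidableEq ι] {F : Type*} [Field F]

theorem toMatrix_diag {g : (ι → F) ≃ₗ[F] (ι → F)} {d : ι → F} (h : ∀ i, g (Pi.single i 1) = d i • Pi.single i 1) :
    LinearMap.toMatrix' g.toLinearMap = Matrix.diagonal d := by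
  ext i j
  rw [LinearMap.toMatrix'_apply]
  have h1 : (fun j' => if j' = j then (1 : F) else 0) = Pi.single j 1 := by
    funext k
    rw [Pi.single_apply]
  have h2 := congrFun (h j) i
  rw [Matrix.diagonal_apply, LinearEquiv.coe_coe]
  simp only [h1] at *
  rw [h2, Pi.smul_apply, smul_eq_mul, Pi.single_apply]
  by_cases e : i = j
  · subst e
    simp
  · simp [e]

theorem diag_apply {g : (ι → F) ≃ₗ[F] (ι → F)} {d : ι → F} (h : ∀ i, g (Pi.single i 1) = d i • Pi.single i 1)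
    (v : ι → F) (i : ι) : g v i = d i * v i := by
  have h1 := toMatrix_diag h
  have h2 : g.toLinearMap v = Matrix.toLin' (LinearMap.toMatrix' g.toLinearMap) v := by rw [Matrix.toLin'_toMatrix']
  have h3 : g v = Matrix.toLin' (Matrix.diagonal d) v := by rw [← h1]; exact h2
  rw [h3, Matrix.toLin'_apply, Matrix.mulVec_diagonal]

theorem diag_det {g : (ι → F) ≃ₗ[F] (ι → F)} {d : ι → F} (h : ∀ i, g (Pi.single i 1) = d i • Pi.single i 1) :
    LinearMap.det g.toLinearMap = ∏ i, d i := by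
  rw [← LinearMap.det_toMatrix', toMatrix_diag h, Matrix.det_diagonal]

/-- a character of `O Q` is trivial on `E Q` -/
theorem char_E {Q : QuadraticForm F (ι → F)} (hG : OrthTrans.Good Q) {A : Type*} [CommGroup A] (θ : O Q →* A) {g : O Q}
    (hg : g.1 ∈ E Q) : θ g = 1 := by
  rw [← hG.commutator_eq_E, ← Subgroup.map_subtype_commutator] at hg
  obtain ⟨z, hz, e⟩ := hg
  have e' : z = g := Subtype.ext e
  subst e'
  exact Abelianization.commutator_subset_ker θ hz

theorem det_E {Q : QuadraticForm F (ι → F)} (hG : OrthTrans.Good Q) {g : (ι → F) ≃ₗ[F] (ι → F)} (hg : g ∈ E Q) :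
    LinearMap.det g.toLinearMap = 1 := by
  have h1 := char_E hG ((LinearEquiv.det (R := F) (M := ι → F)).comp (O Q).subtype) (g := ⟨g, E_le_O hg⟩) hg
  have h2 : ((LinearEquiv.det g : Fˣ) : F) = 1 := congrArg Units.val h1
  rwa [LinearEquiv.coe_det] at h2

end Diag

section Om

variable (m : ℕ) (F : Type) [Field F]


theorem single_V0 : (Pi.single (Sum.inl ()) 1 : Unit ⊕ (Fin m ⊕ Fin m) → F) ∈ (toFrame (wodd m F)).V0 := by
  intro j
  rw [Pi.single_apply, if_neg (by simp)]

variable {m F}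

/-- the weights in coordinates -/
def wc (s : Fin m × Bool → F) (s0 : F) : Unit ⊕ (Fin m ⊕ Fin m) → F :=
  Sum.elim (fun _ => s0) (Sum.elim (fun i => s (i, true)) fun i => s (i, false))

theorem single_of {g : (Unit ⊕ (Fin m ⊕ Fin m) → F) ≃ₗ[F] (Unit ⊕ (Fin m ⊕ Fin m) → F)} {s : Fin m × Bool → F} {s0 : F}
    (hb : ∀ x, g ((toFrame (wodd m F)).b x) = s x • (toFrame (wodd m F)).b x)
    (h0 : g (Pi.single (Sum.inl ()) 1) = s0 • Pi.single (Sum.inl ()) 1) (i : Unit ⊕ (Fin m ⊕ Fin m)) :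
    g (Pi.single i 1) = wc s s0 i • Pi.single i 1 := by
  rcases i with i | i | i
  · exact h0
  · exact hb (i, true)
  · exact hb (i, false)

theorem V0_span {w : Unit ⊕ (Fin m ⊕ Fin m) → F} (hw : w ∈ (toFrame (wodd m F)).V0) : w = w (Sum.inl ()) • Pi.single (Sum.inl ()) 1 := by
  have hw' : ∀ j, w (Sum.inr j) = 0 := hw
  funext i
  rcases i with i | i
  · simp
  · rw [hw' i, Pi.smul_apply, Pi.single_apply, if_neg (by simp), smul_zero]

theorem Q_diag {g : (Unit ⊕ (Fin m ⊕ Fin m) → F) ≃ₗ[F] (Unit ⊕ (Fin m ⊕ Fin m) → F)} {l : Fin m → Fˣ}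
    (hb : ∀ x, g ((toFrame (wodd m F)).b x) = (lam l x : F) • (toFrame (wodd m F)).b x) (h0 : g (Pi.single (Sum.inl ()) 1) = Pi.single (Sum.inl ()) 1) :
    g ∈ O (oddForm m F) := by
  have h1 := diag_apply (single_of (s := fun x => (lam l x : F)) (s0 := 1) hb (by rw [h0, one_smul]))
  intro v
  rw [coe_oddForm, quadFormOdd_apply, quadFormOdd_apply]
  simp only [h1, wc, Sum.elim_inl, Sum.elim_inr, one_mul, lam_true, lam_false]
  congr 1
  refine Finset.sum_congr rfl fun k _ => ?_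
  have := (l k).ne_zero
  rw [Units.val_inv_eq_inv_val]
  field_simp

theorem dg_mem_O (l : Fin m → Fˣ) : dg (toFrame (wodd m F)) (lam l) 1 ∈ O (oddForm m F) :=
  Q_diag (l := l) (fun x => dg_b _ _ _ x) (by rw [dg_V0 _ _ _ (single_V0 m F), Units.val_one, one_smul])

/-! ### The last coordinate: the spinor norm -/

section spinor

/-- reflections as elements of `O Q` -/
noncomputable def rO (v : Unit ⊕ (Fin m ⊕ Fin m) → F) (hv : (oddForm m F) v ≠ 0) : O (oddForm m F) := isometryEquiv (oddForm m F) (reflIso (oddForm m F) v hv)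

theorem rO_apply (v : Unit ⊕ (Fin m ⊕ Fin m) → F) (hv : (oddForm m F) v ≠ 0) (x : Unit ⊕ (Fin m ⊕ Fin m) → F) :
    (rO v hv).1 x = x - (((oddForm m F) v)⁻¹ * polar (oddForm m F) v x) • v := by
  unfold rO
  rw [isometryEquiv_apply, coe_reflIso, reflectionMatrix_mulVec]

/-- the spinor sign -/
noncomputable def th [Finite F] : O (oddForm m F) →* ℤˣ := (spinorSign (⇑(oddForm m F)) (-1)).comp (isometryEquiv (oddForm m F)).symm.toMonoidHom

open Classical in
theorem th_rO [Finite F] (h2 : (2 : F) ≠ 0) (v : Unit ⊕ (Fin m ⊕ Fin m) → F) (hv : (oddForm m F) v ≠ 0) :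
    th (rO v hv) = if IsSquare (-1 * (oddForm m F) v) then -1 else 1 := by
  unfold th rO
  rw [MonoidHom.comp_apply]
  have h1 : (isometryEquiv (oddForm m F)).symm.toMonoidHom (isometryEquiv (oddForm m F) (reflIso (oddForm m F) v hv)) = reflIso (oddForm m F) v hv :=
    (isometryEquiv (oddForm m F)).symm_apply_apply _
  rw [h1]
  exact spinorSign_reflIso h2 (oddForm m F) (neg_ne_zero.2 one_ne_zero) v hv

variable (hm : 0 < m)

theorem QO_ef (k : Fin m) (a : F) : (oddForm m F) ((toFrame (wodd m F)).b (k, true) - a • (toFrame (wodd m F)).b (k, false)) = -a := by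
  rw [sub_eq_add_neg, ← neg_smul, Q_add, QuadraticMap.map_smul, polar_smul_right]
  have h1 : (oddForm m F) ((toFrame (wodd m F)).b (k, true)) = 0 := (sing_iff (oddForm m F)).1 (b_sing (wodd m F) (k, true))
  have h2 : (oddForm m F) ((toFrame (wodd m F)).b (k, false)) = 0 := (sing_iff (oddForm m F)).1 (b_sing (wodd m F) (k, false))
  have h3 : polar (oddForm m F) ((toFrame (wodd m F)).b (k, true)) ((toFrame (wodd m F)).b (k, false)) = 1 := by
    have := (wodd m F).ef k k
    rw [if_pos rfl] at this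
    exact this
  rw [h1, h2, h3]
  simp

theorem polar_ef (k : Fin m) (a : F) (x : Unit ⊕ (Fin m ⊕ Fin m) → F) :
    polar (oddForm m F) ((toFrame (wodd m F)).b (k, true) - a • (toFrame (wodd m F)).b (k, false)) x =
      polar (oddForm m F) ((toFrame (wodd m F)).b (k, true)) x - a * polar (oddForm m F) ((toFrame (wodd m F)).b (k, false)) x := by
  rw [sub_eq_add_neg, ← neg_smul, polar_add_left, polar_smul_left, smul_eq_mul]
  ring

/-- the diagonal elements in the last coordinate are products of two reflections -/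
theorem last_eq (k : Fin m) (y : Fˣ) (h1 : (oddForm m F) ((toFrame (wodd m F)).b (k, true) - (1 : F) • (toFrame (wodd m F)).b (k, false)) ≠ 0)
    (hy : (oddForm m F) ((toFrame (wodd m F)).b (k, true) - ((y⁻¹ : Fˣ) : F) • (toFrame (wodd m F)).b (k, false)) ≠ 0) :
    (rO _ hy * rO _ h1).1 = dg (toFrame (wodd m F)) (lam (Function.update 1 k y)) 1 := by
  have hb : ∀ x y : Fin m × Bool, polar (oddForm m F) ((toFrame (wodd m F)).b x) ((toFrame (wodd m F)).b y) = (HO (oddForm m F)).h ((toFrame (wodd m F)).b x) ((toFrame (wodd m F)).b y) := fun _ _ => rfl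
  have hη : ∀ x : Fin m × Bool, (toFrame (wodd m F)).η x = 1 := fun x => by unfold Frame.η; split_ifs <;> rfl
  have pt : polar (oddForm m F) ((toFrame (wodd m F)).b (k, true)) ((toFrame (wodd m F)).b (k, false)) = 1 := by
    rw [hb]
    exact ((toFrame (wodd m F)).hb_self_neg (k, true)).trans (hη _)
  have pf : polar (oddForm m F) ((toFrame (wodd m F)).b (k, false)) ((toFrame (wodd m F)).b (k, true)) = 1 := by
    rw [hb]
    exact ((toFrame (wodd m F)).hb_self_neg (k, false)).trans (hη _)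
  have ptt : polar (oddForm m F) ((toFrame (wodd m F)).b (k, true)) ((toFrame (wodd m F)).b (k, true)) = 0 := (toFrame (wodd m F)).hb_self _
  have pff : polar (oddForm m F) ((toFrame (wodd m F)).b (k, false)) ((toFrame (wodd m F)).b (k, false)) = 0 := (toFrame (wodd m F)).hb_self _
  have step : ∀ (a : F) (ha : (oddForm m F) ((toFrame (wodd m F)).b (k, true) - a • (toFrame (wodd m F)).b (k, false)) ≠ 0), a ≠ 0 →
      (rO _ ha).1 ((toFrame (wodd m F)).b (k, true)) = a • (toFrame (wodd m F)).b (k, false) ∧ (rO _ ha).1 ((toFrame (wodd m F)).b (k, false)) = a⁻¹ • (toFrame (wodd m F)).b (k, true) ∧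
      (∀ x, polar (oddForm m F) ((toFrame (wodd m F)).b (k, true)) x = 0 → polar (oddForm m F) ((toFrame (wodd m F)).b (k, false)) x = 0 → (rO _ ha).1 x = x) := by
    intro a ha ha0
    refine ⟨?_, ?_, ?_⟩
    · rw [rO_apply, QO_ef, polar_ef, ptt, pf, smul_sub]
      have e : (-a)⁻¹ * (0 - a * 1) = 1 := by field_simp; ring
      rw [e, one_smul, one_smul, sub_sub_cancel]
    · rw [rO_apply, QO_ef, polar_ef, pff, pt, smul_sub, smul_smul]
      have e : (-a)⁻¹ * (1 - a * 0) = -a⁻¹ := by rw [mul_zero, sub_zero, mul_one, inv_neg]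
      have e2 : -a⁻¹ * a = -1 := by rw [neg_mul, inv_mul_cancel₀ ha0]
      rw [e, e2, neg_smul, neg_smul, one_smul]
      abel
    · intro x h3 h4
      rw [rO_apply, polar_ef, h3, h4, mul_zero, sub_zero, mul_zero, zero_smul, sub_zero]
  obtain ⟨a1, a2, a3⟩ := step 1 h1 one_ne_zero
  obtain ⟨b1, b2, b3⟩ := step _ hy (y⁻¹).ne_zero
  have hV0 : ∀ v, (∀ x, (HO (oddForm m F)).h v ((toFrame (wodd m F)).b x) = 0) → v ∈ (toFrame (wodd m F)).V0 := fun v h =>
    mem_V0_of_orth (wodd m F) (fun i => h (i, true)) (fun i => h (i, false))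
  have hmul : ∀ x, (rO _ hy * rO _ h1).1 x = (rO _ hy).1 ((rO _ h1).1 x) := fun _ => rfl
  refine ext_b hV0 (fun z => ?_) fun w hw => ?_
  · rw [hmul, dg_b]
    obtain ⟨j, b⟩ := z
    by_cases hj : j = k
    · subst hj
      cases b
      · rw [a2, map_smul, b1, smul_smul, lam_false, Function.update_self, inv_one, one_mul]
      · rw [a1, map_smul, b2, smul_smul, lam_true, Function.update_self, one_mul, Units.val_inv_eq_inv_val, inv_inv]
    · have h3 : polar (oddForm m F) ((toFrame (wodd m F)).b (k, true)) ((toFrame (wodd m F)).b (j, b)) = 0 := (toFrame (wodd m F)).hb_of_ne (x := (k, true)) (y := (j, b)) (Ne.symm hj)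
      have h4 : polar (oddForm m F) ((toFrame (wodd m F)).b (k, false)) ((toFrame (wodd m F)).b (j, b)) = 0 :=
        (toFrame (wodd m F)).hb_of_ne (x := (k, false)) (y := (j, b)) (Ne.symm hj)
      have h5 : ((lam (Function.update 1 k y) (j, b) : Fˣ) : F) = 1 := by
        cases b
        · rw [lam_false, Function.update_of_ne hj, Pi.one_apply, inv_one, Units.val_one]
        · rw [lam_true, Function.update_of_ne hj, Pi.one_apply, Units.val_one]
      rw [a3 _ h3 h4, b3 _ h3 h4, h5, one_smul]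
  · have h3 : ∀ x, polar (oddForm m F) ((toFrame (wodd m F)).b x) w = 0 := fun x => (toFrame (wodd m F)).h0 x w hw
    rw [hmul, a3 _ (h3 _) (h3 _), b3 _ (h3 _) (h3 _), dg_V0 _ _ _ hw, Units.val_one, one_smul]

theorem square_of_mem [Finite F] (h2 : (2 : F) ≠ 0) (hG : OrthTrans.Good (oddForm m F)) (k : Fin m) (y : Fˣ)
    (h : dg (toFrame (wodd m F)) (lam (Function.update 1 k y)) 1 ∈ E (oddForm m F)) : IsSquare y := by
  classical
  have h1 : (oddForm m F) ((toFrame (wodd m F)).b (k, true) - (1 : F) • (toFrame (wodd m F)).b (k, false)) ≠ 0 := by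
    rw [QO_ef]
    exact neg_ne_zero.2 one_ne_zero
  have hy : (oddForm m F) ((toFrame (wodd m F)).b (k, true) - ((y⁻¹ : Fˣ) : F) • (toFrame (wodd m F)).b (k, false)) ≠ 0 := by
    rw [QO_ef]
    exact neg_ne_zero.2 (y⁻¹).ne_zero
  rw [← last_eq k y h1 hy] at h
  have h3 := char_E hG th h
  rw [map_mul, th_rO h2, th_rO h2, QO_ef, QO_ef] at h3
  have e1 : IsSquare (-1 * -1 : F) := ⟨1, by ring⟩
  rw [if_pos e1] at h3
  by_cases hs : IsSquare (-1 * -((y⁻¹ : Fˣ) : F))
  · obtain ⟨z, hz⟩ := hs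
    have hz' : ((y⁻¹ : Fˣ) : F) = z * z := by rw [← hz]; ring
    have hz0 : z ≠ 0 := by
      rintro rfl
      exact (y⁻¹).ne_zero (by rw [hz', zero_mul])
    refine ⟨(Units.mk0 z hz0)⁻¹, ?_⟩
    rw [← mul_inv, ← inv_inj, inv_inv]
    exact Units.ext hz'
  · rw [if_neg hs] at h3
    exact absurd h3 (by decide)

end spinor

/-! ### The coroots generate the torus -/

section gen

variable [Finite F]

/-- elements of the torus are diagonal -/
theorem tor_dg {g : (Unit ⊕ (Fin m ⊕ Fin m) → F) ≃ₗ[F] (Unit ⊕ (Fin m ⊕ Fin m) → F)} (hG : OrthTrans.Good (oddForm m F))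
    (h2 : (2 : F) ≠ 0) (hg : g ∈ Tor (toFrame (wodd m F)) (E (oddForm m F))) : ∃ l : Fin m → Fˣ, g = dg (toFrame (wodd m F)) (lam l) 1 := by
  obtain ⟨hg, hm⟩ := hg
  have hA := amb_O_of_two (wodd m F) h2
  have hη : ∀ x : Fin m × Bool, (toFrame (wodd m F)).η x = 1 := fun x => by unfold Frame.η; split_ifs <;> rfl
  have hm' := hm
  choose l hl0 hl using hm'
  have hl' : ∀ k, l (k, true) * l (k, false) = 1 := by
    intro k
    have h1 := hA.iso g hg ((toFrame (wodd m F)).b (k, true)) ((toFrame (wodd m F)).b (k, false))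
    rw [hl, hl] at h1
    simp only [id] at h1
    have h3 : (HO (oddForm m F)).h ((toFrame (wodd m F)).b (k, true)) ((toFrame (wodd m F)).b (k, false)) = 1 := ((toFrame (wodd m F)).hb_self_neg (k, true)).trans (hη _)
    rw [HForm.smul_right, HForm.smul_left, h3, mul_one] at h1
    have h4 : (HO (oddForm m F)).σ (l (k, false)) = l (k, false) := rfl
    rw [h4] at h1
    rw [mul_comm]
    exact h1
  let L : Fin m → Fˣ := fun k => Units.mk0 (l (k, true)) (hl0 _)
  have hL : ∀ x, g ((toFrame (wodd m F)).b x) = (lam L x : F) • (toFrame (wodd m F)).b x := by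
    rintro ⟨k, b⟩
    rw [hl]
    congr 1
    cases b
    · rw [lam_false, Units.val_inv_eq_inv_val]
      exact eq_inv_of_mul_eq_one_right (hl' k)
    · rfl
  have h0 : g (Pi.single (Sum.inl ()) 1) ∈ (toFrame (wodd m F)).V0 := hA.map_V0 hg hm (ρ := id) (fun _ => rfl) (single_V0 m F)
  have h1 := V0_span h0
  set μ : F := g (Pi.single (Sum.inl ()) 1) (Sum.inl ()) with hμ
  have h3 := diag_det (single_of (s := fun x => (lam L x : F)) (s0 := μ) hL h1)
  rw [det_E hG hg, Fintype.prod_sum_type, Fintype.prod_sum_type] at h3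
  simp only [wc, Sum.elim_inl, Sum.elim_inr, lam_true, lam_false] at h3
  rw [← Finset.prod_mul_distrib, Finset.prod_eq_one (s := Finset.univ) (f := fun i => ((L i : Fˣ) : F) * ((L i)⁻¹ : Fˣ)),
    mul_one] at h3
  swap
  · intro i _
    rw [← Units.val_mul, mul_inv_cancel, Units.val_one]
  have h4 : μ = 1 := by
    rw [Finset.prod_const, Finset.card_univ] at h3
    simpa using h3.symm
  refine ⟨L, ext_b hA.V0 (fun x => ?_) fun w hw => ?_⟩
  · rw [hL, dg_b]
  · rw [dg_V0 _ _ _ hw, Units.val_one, one_smul, V0_span hw, map_smul, h1, h4, one_smul]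

theorem co_last (hm : 0 < m) (z : Fˣ) : cc (co (⟨m - 1, by omega⟩ : Fin m)) z =
    lam (Function.update 1 (⟨m - 1, by omega⟩ : Fin m) (z * z)) := by
  unfold cc
  congr 1
  funext k
  unfold co
  by_cases hk : k = ⟨m - 1, by omega⟩
  · rw [if_pos hk, if_pos (by simp only; omega), hk, Function.update_self, zpow_two]
  · have hk' : (k : ℕ) ≠ m - 1 := fun h => hk (Fin.ext h)
    have := k.2
    rw [if_neg hk, if_neg (by simp only; omega), zpow_zero, Function.update_of_ne hk, Pi.one_apply]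

theorem gen_O (h2 : (2 : F) ≠ 0) (hG : OrthTrans.Good (oddForm m F)) (hp : ∃ p : (toFrame (wodd m F)).Adm, p.c ≠ 0) (hm : 0 < m) : ∀ g ∈ Tor (toFrame (wodd m F)) (E (oddForm m F)),
    g ∈ Subgroup.closure {y | ∃ (j : Fin m) (x : Fˣ), y = dg (toFrame (wodd m F)) (cc (co j) x) 1} := by
  intro g hg
  obtain ⟨l, e⟩ := tor_dg hG h2 hg
  set C := Subgroup.closure {y | ∃ (j : Fin m) (x : Fˣ), y = dg (toFrame (wodd m F)) (cc (co j) x) 1} with hC
  have hA := amb_O_of_two (wodd m F) h2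
  obtain ⟨p, hp⟩ := hp
  have hCE : C ≤ E (oddForm m F) := by
    rw [hC, Subgroup.closure_le]
    rintro _ ⟨j, x, rfl⟩
    exact co_mem (model (wodd m F) hG ⟨p, hp⟩) (fun _ => rfl) hA.V0 hp j x
  obtain ⟨c, hc, y, ey⟩ := exists_last (Fr := toFrame (wodd m F)) hm (C := C) (fun j _ x => Subgroup.subset_closure ⟨j, x, rfl⟩) l
  have hD : dg (toFrame (wodd m F)) (lam (Function.update 1 (⟨m - 1, by omega⟩ : Fin m) y)) 1 ∈ E (oddForm m F) := by
    have h1 : dg (toFrame (wodd m F)) (lam (Function.update 1 (⟨m - 1, by omega⟩ : Fin m) y)) 1 = c⁻¹ * g := by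
      rw [e, ey, inv_mul_cancel_left]
    rw [h1]
    exact mul_mem (inv_mem (hCE hc)) hg.1
  obtain ⟨z, rfl⟩ := square_of_mem h2 hG _ y hD
  rw [e, ey, ← co_last hm z]
  exact mul_mem hc (Subgroup.subset_closure ⟨_, z, rfl⟩)

end gen

/-- **The torus data of `POmega_{2m+1}`.** -/
theorem td_O [Finite F] (h2 : (2 : F) ≠ 0) (hG : OrthTrans.Good (oddForm m F)) (hp : ∃ p : (toFrame (wodd m F)).Adm, p.c ≠ 0) (hm : 0 < m)
    (hσ : ∀ x, (HO (oddForm m F)).σ x = x) (hA : Amb (toFrame (wodd m F)) (model (wodd m F) hG hp).I) {p p0 : (toFrame (wodd m F)).Adm} (hq : p.c ≠ 0)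
    (hp0 : p0.c ≠ 0) :
    TD (WittModel.T (model (wodd m F) hG hp)) (WittModel.nw (model (wodd m F) hG hp) hA p0) (Ap true m)
      (hh (model (wodd m F) hG hp) hσ hA hq) :=
  td_of _ hσ hA hq hp0 (gen_O h2 hG hp hm)

/-! ### Conjugation by elements of `O Q` -/

section conj

variable {ι : Type} [Fintype ι] [DecidableEq ι] {Q : QuadraticForm F (ι → F)}

/-- conjugation on `E Q` by an element of `O Q` -/
def cE (s : O Q) : E Q →* E Q where
  toFun g := ⟨s.1 * g.1 * s.1⁻¹, conj_mem_E s.2 g.2⟩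
  map_one' := Subtype.ext (by show s.1 * 1 * s.1⁻¹ = 1; rw [mul_one, mul_inv_cancel])
  map_mul' g k := Subtype.ext (by
    show s.1 * (g.1 * k.1) * s.1⁻¹ = s.1 * g.1 * s.1⁻¹ * (s.1 * k.1 * s.1⁻¹)
    group)

theorem coe_cE (s : O Q) (g : E Q) : (cE s g).1 = s.1 * g.1 * s.1⁻¹ := rfl

theorem cE_ker (hG : OrthTrans.Good Q) (s : O Q) : (toPOmega hG).ker ≤ ((toPOmega hG).comp (cE s)).ker := by
  intro g hg
  obtain ⟨c, hc⟩ := scalar_of_center hG (center_of_toPOmega hG (MonoidHom.mem_ker.1 hg))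
  rw [MonoidHom.mem_ker, MonoidHom.comp_apply]
  have h1 : cE s g = g := by
    apply Subtype.ext
    rw [coe_cE, mul_inv_eq_iff_eq_mul]
    ext1 v
    change s.1 (g.1 v) = g.1 (s.1 v)
    rw [hc, hc, map_smul]
  rw [h1]
  exact MonoidHom.mem_ker.1 hg

/-- on `POmega` -/
noncomputable def lO (hG : OrthTrans.Good Q) (s : O Q) : Cfsg.POmega F ⇑Q →* Cfsg.POmega F ⇑Q :=
  (toPOmega hG).liftOfSurjective (toPOmega_surjective hG) ⟨(toPOmega hG).comp (cE s), cE_ker hG s⟩

theorem lO_apply (hG : OrthTrans.Good Q) (s : O Q) (g : E Q) : lO hG s (toPOmega hG g) = toPOmega hG (cE s g) :=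
  MonoidHom.liftOfRightInverse_comp_apply _ _ _ _ g

theorem lO_lO (hG : OrthTrans.Good Q) (s : O Q) : (lO hG s⁻¹).comp (lO hG s) = MonoidHom.id _ := by
  refine MonoidHom.ext fun y => ?_
  obtain ⟨g, rfl⟩ := toPOmega_surjective hG y
  ((conv => enter [@2]; rw [MonoidHom.comp_apply]); (conv => enter [@2, @6]; rw [lO_apply]); (conv => enter [@2]; rw [lO_apply]); (conv => enter [@3]; rw [MonoidHom.id_apply]))
  congr 1
  apply Subtype.ext
  rw [coe_cE, coe_cE]
  show s.1⁻¹ * (s.1 * g.1 * s.1⁻¹) * s.1⁻¹⁻¹ = g.1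
  group

/-- **the automorphism** induced by `s` -/
noncomputable def dO (hG : OrthTrans.Good Q) (s : O Q) : Cfsg.POmega F ⇑Q ≃* Cfsg.POmega F ⇑Q :=
  MonoidHom.toMulEquiv (lO hG s) (lO hG s⁻¹) (lO_lO hG s) (by
    have := lO_lO hG s⁻¹
    rwa [inv_inv] at this)

theorem dO_apply (hG : OrthTrans.Good Q) (s : O Q) (g : E Q) : dO hG s (toPOmega hG g) = toPOmega hG (cE s g) :=
  lO_apply hG s g

end conj

theorem conj_rg {V : Type*} [AddCommGroup V] [Module F V] {H : HForm F V} {n : ℕ} {Fr : Frame H (Fin n)}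
    {G0 : Subgroup (V ≃ₗ[F] V)} (hA : Amb Fr G0) {s : V ≃ₗ[F] V} (hs : s ∈ G0) (hm : Mono Fr s id) (x : Fin n → ℤ)
    {u : V ≃ₗ[F] V} (hu : u ∈ rg Fr x) : s * u * s⁻¹ ∈ rg Fr x := by
  have h1 : rg Fr x ≤ (rg Fr x).comap (MulAut.conj s).toMonoidHom := by
    refine iSup_le fun q u hu => ?_
    have h2 := hA.cj_id hs hm q.2.1
    have h3 : s * u * s⁻¹ ∈ cj s (PG Fr q.1.1 q.1.2) := conj_mem_cj.2 hu
    rw [h2] at h3
    exact le_iSup (fun q : {q : (Fin n × Bool) × (Fin n × Bool) // Ok q.1 q.2 ∧ ee x = wt q.1 + wt q.2} =>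
      PG Fr q.1.1 q.1.2) q h3
  exact h1 hu

theorem amb_OO (h2 : (2 : F) ≠ 0) : Amb (toFrame (wodd m F)) (O (oddForm m F)) := by
  refine amb_of (wodd m F) _ (fun g hg v w => polar_map hg v w) ?_ (fun a b t => E_le_O (X_mem _ a b t))
    (fun a p => E_le_O (Z_mem _ a p)) ?_
  · intro g hg w c h
    have h3 : c = -(oddForm m F) w := h
    show c = -(oddForm m F) (g w)
    rw [h3, mem_O.1 hg]
  · intro w _ h
    refine (sing_iff (oddForm m F)).2 ?_
    have h' : polar (oddForm m F) w w = 0 := h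
    rw [OrthCore.polar_self'] at h'
    exact (mul_eq_zero.1 h').resolve_left h2

/-! ### The fundamental coweights -/

/-- the fundamental coweights in `O Q` -/
noncomputable def sh (j : Fin m) (x : Fˣ) : O (oddForm m F) := ⟨dg (toFrame (wodd m F)) (cc (cw j) x) 1, dg_mem_O _⟩

theorem coe_sh (j : Fin m) (x : Fˣ) : (sh j x : O (oddForm m F)).1 = dg (toFrame (wodd m F)) (cc (cw j) x) 1 := rfl

/-- the automorphisms -/
noncomputable def dd (hG : OrthTrans.Good (oddForm m F)) (j : Fin m) (x : Fˣ) : Cfsg.POmega F ⇑(oddForm m F) ≃* Cfsg.POmega F ⇑(oddForm m F) :=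
  dO hG (sh j x)

section dd

variable (hG : OrthTrans.Good (oddForm m F)) (hp : ∃ p : (toFrame (wodd m F)).Adm, p.c ≠ 0) (hA : Amb (toFrame (wodd m F)) (model (wodd m F) hG hp).I)

/-- conjugation on the ambient group of the model -/
noncomputable def cM (s : O (oddForm m F)) : (model (wodd m F) hG hp).I →* (model (wodd m F) hG hp).I := cE s

theorem coe_cM (s : O (oddForm m F)) (g : (model (wodd m F) hG hp).I) : (cM hG hp s g).1 = s.1 * g.1 * s.1⁻¹ := rfl

/-- **the formula for `dd`** -/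
theorem dd_φ (j : Fin m) (x : Fˣ) (g : (model (wodd m F) hG hp).I) :
    dd hG j x ((model (wodd m F) hG hp).φ g) = (model (wodd m F) hG hp).φ (cM hG hp (sh j x) g) := dO_apply hG _ g

include hA in
theorem dd_T (j : Fin m) (x : Fˣ) {t : Cfsg.POmega F ⇑(oddForm m F)} (ht : t ∈ WittModel.T (model (wodd m F) hG hp)) :
    dd hG j x t = t := by
  obtain ⟨g, hg, rfl⟩ := ht
  simp only [dd_φ]
  congr 1
  obtain ⟨hg1, hg2⟩ := Subgroup.mem_subgroupOf.1 hg
  apply Subtype.ext
  rw [coe_cM, coe_sh, mul_inv_eq_iff_eq_mul]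
  refine ext_b hA.V0 (fun z => ?_) fun w hw => ?_
  · obtain ⟨l, -, e⟩ := hg2 z
    have e' : g.1 ((toFrame (wodd m F)).b z) = l • (toFrame (wodd m F)).b z := e
    simp only [mul_apply', mul_apply', e', map_smul, dg_b, map_smul, e', smul_smul, smul_smul, mul_comm]
  · have h1 : g.1 w ∈ (toFrame (wodd m F)).V0 := hA.map_V0 hg1 hg2 (ρ := id) (fun _ => rfl) hw
    simp only [mul_apply', mul_apply', dg_V0 _ _ _ hw, dg_V0 _ _ _ h1, Units.val_one, one_smul, one_smul]

theorem dd_X (h2 : (2 : F) ≠ 0) (j : Fin m) (x : Fˣ) (r : Fin m → ℤ) {u : Cfsg.POmega F ⇑(oddForm m F)}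
    (hu : u ∈ WittModel.X (model (wodd m F) hG hp) r) : dd hG j x u ∈ WittModel.X (model (wodd m F) hG hp) r := by
  obtain ⟨g, hg, hg2, rfl⟩ := (WittModel.mem_X _).1 hu
  rw [dd_φ]
  exact WittModel.mem_X_of _ _ (conj_rg (amb_OO h2) (sh j x).2 (mono_dg _ _ _) r hg2)

seal _root_.Finset.sum _root_.dotProduct in
theorem dd_nw (j : Fin m) (x : Fˣ) {p0 : (toFrame (wodd m F)).Adm} (hp0 : p0.c ≠ 0) (i : Fin m) :
    ∃ g : (model (wodd m F) hG hp).I, g.1 = dg (toFrame (wodd m F)) (cc (if i = j then co j else 0) x) 1 ∧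
      (WittModel.nw (model (wodd m F) hG hp) hA p0 i)⁻¹ * dd hG j x (WittModel.nw (model (wodd m F) hG hp) hA p0 i) =
        (model (wodd m F) hG hp).φ g := by
  unfold WittModel.nw
  simp only [dd_φ, ← map_inv, ← map_mul]
  exact ⟨_, cw_nn (model (wodd m F) hG hp) hA hp0 i j x, rfl⟩

seal _root_.Finset.sum _root_.dotProduct in
theorem dd_nw_self (hσ : ∀ x, (HO (oddForm m F)).σ x = x) {p p0 : (toFrame (wodd m F)).Adm} (hq : p.c ≠ 0) (hp0 : p0.c ≠ 0) (j : Fin m) (x : Fˣ) :
    (WittModel.nw (model (wodd m F) hG hp) hA p0 j)⁻¹ * dd hG j x (WittModel.nw (model (wodd m F) hG hp) hA p0 j) =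
      hh (model (wodd m F) hG hp) hσ hA hq j x := by
  obtain ⟨g, hg, e⟩ := dd_nw hG hp hA j x hp0 j
  rw [if_pos rfl] at hg
  ((conv => enter [@2]; rw [e]); (conv => enter [@3]; rw [hh_eq _ hσ hA hq j x hg]))

seal _root_.Finset.sum _root_.dotProduct in
theorem dd_nw_ne {p0 : (toFrame (wodd m F)).Adm} (hp0 : p0.c ≠ 0) {i j : Fin m} (hij : i ≠ j) (x : Fˣ) :
    dd hG j x (WittModel.nw (model (wodd m F) hG hp) hA p0 i) = WittModel.nw (model (wodd m F) hG hp) hA p0 i := by
  obtain ⟨g, hg, e⟩ := dd_nw hG hp hA j x hp0 i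
  rw [if_neg hij, cc_zero, dg_one] at hg
  have hg' : g = 1 := Subtype.ext hg
  (rewrite [hg'] at e; (conv at e => enter [@3]; rw [map_one]); rewrite [inv_mul_eq_one] at e)
  exact e.symm

variable {W : Type*} [Group W] (cs : CoxeterSystem (CoxeterMatrix.B m) W)

theorem dia_dd (h2 : (2 : F) ≠ 0) {p0 : (toFrame (wodd m F)).Adm} (hp0 : p0.c ≠ 0) (j : Fin m) (x : Fˣ) :
    Dia cs (isCartan m) (WittModel.T (model (wodd m F) hG hp)) (WittModel.nw (model (wodd m F) hG hp) hA p0)
      (WittModel.X (model (wodd m F) hG hp)) (dd hG j x) where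
  tor t ht := dd_T hG hp hA j x ht
  root r _ u hu := dd_X hG hp h2 j x r hu
  nn i := by
    obtain ⟨g, hg, e⟩ := dd_nw hG hp hA j x hp0 i
    rw [e]
    refine Subgroup.mem_map_of_mem _ (Subgroup.mem_subgroupOf.2 ⟨g.2, ?_⟩)
    rw [hg]
    exact mono_dg _ _ _

seal _root_.Finset.sum _root_.dotProduct in
/-- **`HD` from the conjugacy of `t` and its images in `L_J`.** -/
theorem hd_of (h2 : (2 : F) ≠ 0) (hσ : ∀ x, (HO (oddForm m F)).σ x = x) {p p0 : (toFrame (wodd m F)).Adm} (hq : p.c ≠ 0) (hp0 : p0.c ≠ 0)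
    {J : Set (Fin m)} {t : Cfsg.POmega F ⇑(oddForm m F)}
    (h : ∀ (j : Fin m) (x : Fˣ), ∃ a ∈ Bruhat.LJ cs (isCartan m) (WittModel.T (model (wodd m F) hG hp))
      (WittModel.X (model (wodd m F) hG hp)) J, dd hG j x t = a * t * a⁻¹) :
    HD cs (isCartan m) (WittModel.T (model (wodd m F) hG hp)) (WittModel.nw (model (wodd m F) hG hp) hA p0)
      (WittModel.X (model (wodd m F) hG hp)) (hh (model (wodd m F) hG hp) hσ hA hq) J t := fun j x =>
  ⟨dd hG j x, dia_dd hG hp hA cs h2 hp0 j x, dd_nw_self hG hp hA hσ hq hp0 j x, fun _ hi => dd_nw_ne hG hp hA hp0 hi x,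
    h j x⟩

end dd

end Om

end Cfsg.Agent.H644.OZ
end

private theorem dce_67e6f59ca08c : _root_.True := by
  try have : _root_.True := by simp only [_root_.Cfsg.Agent.H644.OZ.wc.eq_1]
  exact _root_.True.intro
end
end
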